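import Cfsg.Agent.Lib.CT.Clifford
import Cfsg.Agent.Lib.CT.Kernel
import Cfsg.Agent.Lib.CT.FrobeniusSchur
import Cfsg.Agent.Lib.CoprimeExt.Basic
import Mathlib.RepresentationTheory.Character

/-!
# Real characters of odd degree: determinants and parity
-/

set_option autoImplicit false
set_option linter.all false

open scoped ComplexConjugate

namespace Cfsg.Agent.RealOddCount

open Cfsg.Agent

universe u v

variable {G : Type u} [Group G]

/-- A real valued function. -/
def IsReal (χ : G → ℂ) : Prop := ∀ g, conj (χ g) = χ g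

theorem isReal_iff_im {χ : G → ℂ} : IsReal χ ↔ ∀ g, (χ g).im = 0 :=
  forall_congr' fun _ => Complex.conj_eq_iff_im

theorem isReal_mul {a b : G → ℂ} (ha : IsReal a) (hb : IsReal b) : IsReal (a * b) := fun g => by
  rw [Pi.mul_apply, map_mul, ha, hb]

theorem conj_unit_eq {u : ℂˣ} (h : u ^ 2 = 1) : conj (u : ℂ) = u := by
  have h' : (u : ℂ) ^ 2 = 1 := by rw [← Units.val_pow_eq_pow_val, h, Units.val_one]
  rcases sq_eq_one_iff.mp h' with e | e <;> simp [e]

theorem isReal_lin {lam : G →* ℂˣ} (h : lam ^ 2 = 1) : IsReal fun g => (lam g : ℂ) := fun g =>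
  conj_unit_eq (by rw [← MonoidHom.pow_apply, h, MonoidHom.one_apply])

theorem lin_sq_of_real [Finite G] {lam : G →* ℂˣ} (h : IsReal fun g => (lam g : ℂ)) :
    lam ^ 2 = 1 := by
  refine MonoidHom.ext fun g => ?_
  have h2 := CT.char_inv_eq_conj (CT.isCharacter_lin lam) g
  rw [h g] at h2
  have h3 : lam g⁻¹ = lam g := Units.ext h2
  rw [map_inv, inv_eq_iff_mul_eq_one] at h3
  rw [MonoidHom.pow_apply, pow_two, h3, MonoidHom.one_apply]

theorem lin_eq_of_coe {a b : G →* ℂˣ} (h : (fun g => (a g : ℂ)) = fun g => (b g : ℂ)) : a = b :=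
  MonoidHom.ext fun g => Units.ext (congrFun h g)

/-- The determinant of a real character has order at most two. -/
theorem detHom_sq_of_real [Finite G] {V : Type v} [AddCommGroup V] [Module ℂ V] [FiniteDimensional ℂ V]
    (ρ : Representation ℂ G V) (h : IsReal ρ.character) : CoprimeExt.detHom ρ ^ 2 = 1 := by
  have hch : ρ.character = ρ.dual.character := by
    funext g
    rw [Representation.char_dual, CT.char_inv_eq_conj (CT.isCharacter_character ρ), h]
  obtain ⟨e⟩ := CT.equiv_of_character_eq ρ ρ.dual hch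
  refine MonoidHom.ext fun g => Units.ext ?_
  have h1 : LinearMap.det (ρ.dual g) = LinearMap.det (ρ g) := by
    rw [← e.conj_apply_self g]
    exact LinearMap.det_conj _ _
  have h2 : LinearMap.det (ρ.dual g) = LinearMap.det (ρ g⁻¹) := by
    rw [Representation.dual_apply]
    exact LinearMap.det_dualMap _
  rw [h2] at h1
  rw [MonoidHom.pow_apply, MonoidHom.one_apply, pow_two, Units.val_mul, Units.val_one,
    CoprimeExt.detHom_apply]
  conv_lhs => arg 1; rw [← h1]
  rw [← map_mul, ← map_mul, inv_mul_cancel, map_one, map_one]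

/-- A character that is a multiple of a linear one on a subgroup has determinant a power of it. -/
theorem detHom_restrict [Finite G] {n : ℕ} (ρ : Representation ℂ G (Fin n → ℂ)) (M : Subgroup G)
    (lam : M →* ℂˣ) (h : ∀ m : M, ρ.character m = (lam m : ℂ) * ρ.character 1) (m : M) :
    CoprimeExt.detHom ρ m = lam m ^ n := by
  let σ : Representation ℂ M (Fin n → ℂ) :=
    { toFun := fun x => ((lam x)⁻¹ : ℂˣ).val • ρ x
      map_one' := by simp
      map_mul' := fun x y => by
        rw [map_mul, Subgroup.coe_mul, map_mul, mul_inv, Units.val_mul, smul_mul_smul_comm] }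
  have hσ : σ m = 1 := by
    rw [CT.rep_eq_one_iff σ m]
    show LinearMap.trace ℂ _ (((lam m)⁻¹ : ℂˣ).val • ρ (m : G)) =
      LinearMap.trace ℂ _ (((lam 1)⁻¹ : ℂˣ).val • ρ ((1 : M) : G))
    rw [map_smul, map_smul, map_one, inv_one, Units.val_one, one_smul, OneMemClass.coe_one,
      smul_eq_mul]
    show _ * ρ.character m = ρ.character 1
    rw [h, ← mul_assoc, Units.inv_mul, one_mul]
  have hρ : ρ (m : G) = (lam m : ℂ) • (1 : Module.End ℂ (Fin n → ℂ)) := by
    rw [← hσ]
    show _ = (lam m : ℂ) • (((lam m)⁻¹ : ℂˣ).val • ρ (m : G))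
    rw [smul_smul, Units.mul_inv, one_smul]
  refine Units.ext ?_
  rw [CoprimeExt.detHom_apply, hρ, Units.val_pow_eq_pow_val, LinearMap.det_smul, map_one, mul_one,
    Module.finrank_fin_fun]

variable [Fintype G]

theorem deg_conj {χ : G → ℂ} (h : Cfsg.IsCharacter G χ) : CT.deg (fun g => conj (χ g)) = CT.deg χ := by
  simp [CT.deg]

theorem deg_lin_mul (lam : G →* ℂˣ) (χ : G → ℂ) :
    CT.deg ((fun g => (lam g : ℂ)) * χ) = CT.deg χ := by
  simp [CT.deg]

/-- A real character of odd degree has a real constituent with odd contribution. -/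
theorem exists_real_odd_constituent {f : G → ℂ} (hf : Cfsg.IsCharacter G f) (hr : IsReal f)
    (hodd : Odd (CT.deg f)) :
    ∃ χ : Cfsg.IrrCharacter G, IsReal (χ : G → ℂ) ∧ Odd (CT.mult f (χ : G → ℂ) * CT.deg (χ : G → ℂ)) := by
  classical
  haveI := CT.irr_finite G
  haveI := Fintype.ofFinite (Cfsg.IrrCharacter G)
  let σ : Cfsg.IrrCharacter G → Cfsg.IrrCharacter G := fun χ =>
    ⟨fun g => conj ((χ : G → ℂ) g), CT.conj_irr χ.2⟩
  let F : Cfsg.IrrCharacter G → ℕ := fun χ => CT.mult f (χ : G → ℂ) * CT.deg (χ : G → ℂ)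
  have hF : ∀ χ, F (σ χ) = F χ := by
    intro χ
    have hm : CT.mult f (σ χ : G → ℂ) = CT.mult f (χ : G → ℂ) := by
      apply Nat.cast_injective (R := ℂ)
      rw [← CT.mult_spec hf (CT.isCharacter_of_isIrr (σ χ).2),
        ← CT.mult_spec hf (CT.isCharacter_of_isIrr χ.2)]
      have e : Cfsg.classInner f (σ χ : G → ℂ) = conj (Cfsg.classInner f (χ : G → ℂ)) := by
        simp only [Cfsg.classInner, σ, map_mul, map_inv₀, map_natCast, map_sum, Complex.conj_conj,
          (show ∀ g, conj (f g) = f g from hr)]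
      rw [e, CT.mult_spec hf (CT.isCharacter_of_isIrr χ.2), map_natCast]
    simp only [F, hm]
    rw [show CT.deg (σ χ : G → ℂ) = CT.deg (χ : G → ℂ) from deg_conj (CT.isCharacter_of_isIrr χ.2)]
  have hsum : CT.deg f = ∑ χ, F χ := by
    apply Nat.cast_injective (R := ℂ)
    rw [← CT.deg_eq hf]
    conv_lhs => rw [CT.character_eq_sum hf]
    rw [Finset.sum_apply]
    push_cast
    refine Finset.sum_congr (Finset.ext fun _ => by simp) fun χ _ => ?_
    rw [Pi.smul_apply, smul_eq_mul, CT.deg_eq (CT.isCharacter_of_isIrr χ.2), Nat.cast_mul]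
  by_contra hno
  push Not at hno
  have hz : ((∑ χ, F χ : ℕ) : ZMod 2) = 0 := by
    rw [Nat.cast_sum]
    refine Finset.sum_involution (fun χ _ => σ χ) (fun χ _ => ?_) (fun χ _ hne heq => hne ?_)
      (fun χ _ => Finset.mem_univ _) (fun χ _ => Subtype.ext (funext fun g => Complex.conj_conj _))
    · rw [hF]
      exact CharTwo.add_self_eq_zero _
    · have hreal : IsReal (χ : G → ℂ) := fun g =>
        congrFun (congrArg Subtype.val heq) g
      rw [ZMod.natCast_eq_zero_iff_even]
      exact Nat.not_odd_iff_even.mp (hno χ hreal)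
  rw [← hsum, ZMod.natCast_eq_zero_iff_even] at hz
  exact Nat.not_odd_iff_even.mpr hz hodd

theorem conj_indFun (H : Subgroup G) (θ : H → ℂ) (g : G) :
    conj (Cfsg.indFun H θ g) = Cfsg.indFun H (fun h => conj (θ h)) g := by
  simp only [Cfsg.indFun, map_mul, map_inv₀, map_natCast, finsum_eq_sum_of_fintype, map_sum]
  congr 1
  refine Finset.sum_congr rfl fun x _ => ?_
  by_cases h : x⁻¹ * g * x ∈ H
  · rw [CT.extendByZero_mem H _ h, CT.extendByZero_mem H _ h]
  · rw [CT.extendByZero_not_mem H _ h, CT.extendByZero_not_mem H _ h, map_zero]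

/-- The Clifford correspondent is unique. -/
theorem correspondent_unique (N : Subgroup G) [N.Normal] [Fintype N] {φ : N → ℂ}
    (hφ : Cfsg.IsIrrCharacter N φ) (T : Subgroup G) [Fintype T] (hT : T = CT.inertia N φ) (hNT : N ≤ T)
    {ψ ψ' : T → ℂ} (hψ : Cfsg.IsIrrCharacter T ψ) (hψ' : Cfsg.IsIrrCharacter T ψ')
    (h1 : Cfsg.classInner (CT.resTo N T hNT ψ) φ ≠ 0)
    (h1' : Cfsg.classInner (CT.resTo N T hNT ψ') φ ≠ 0)
    (h : Cfsg.indFun T ψ = Cfsg.indFun T ψ') : ψ = ψ' := by
  classical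
  set χ := Cfsg.indFun T ψ with hχdef
  have hχ : Cfsg.IsIrrCharacter G χ := CT.isIrr_indFun_of_over N hφ T hT hNT hψ h1
  have hres := CT.isCharacter_restrict T (CT.isCharacter_of_isIrr hχ)
  have hone : ∀ {η : T → ℂ}, Cfsg.IsIrrCharacter T η → Cfsg.indFun T η = χ →
      CT.mult (fun t : T => χ t) η = 1 := by
    intro η hη he
    apply Nat.cast_injective (R := ℂ)
    rw [← CT.mult_spec hres (CT.isCharacter_of_isIrr hη),
      CT.classInner_comm_of_char hres (CT.isCharacter_of_isIrr hη),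
      ← CT.frobenius_reciprocity T η (CT.isClassFunction_of_isIrr hχ), he, CT.irr_inner_self hχ,
      Nat.cast_one]
  have hpos : ∀ {η : T → ℂ}, Cfsg.IsIrrCharacter T η →
      Cfsg.classInner (CT.resTo N T hNT η) φ ≠ 0 → 0 < CT.mult (CT.resTo N T hNT η) φ := by
    intro η hη hne
    refine Nat.pos_of_ne_zero fun h0 => hne ?_
    rw [CT.mult_spec (CT.isCharacter_resTo N T hNT (CT.isCharacter_of_isIrr hη))
      (CT.isCharacter_of_isIrr hφ), h0, Nat.cast_zero]
  by_contra hne
  have hsum := CT.sum_mult_over N hφ T hNT (CT.isCharacter_of_isIrr hχ)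
  haveI := CT.irr_finite T
  have hle : CT.mult (CT.resTo N T hNT ψ) φ + CT.mult (CT.resTo N T hNT ψ') φ ≤
      CT.mult (fun n : N => χ n) φ := by
    rw [hsum]
    refine le_trans ?_ (Finset.sum_le_sum_of_subset (Finset.subset_univ
      ({⟨ψ, hψ⟩, ⟨ψ', hψ'⟩} : Finset (Cfsg.IrrCharacter T))))
    rw [Finset.sum_pair fun e => hne (congrArg Subtype.val e)]
    simp only [hone hψ rfl, hone hψ' h.symm, one_mul, le_refl]
  have hcon : Cfsg.classInner (fun n : N => χ n) φ ≠ 0 := by
    rw [CT.mult_spec (CT.isCharacter_restrict N (CT.isCharacter_of_isIrr hχ))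
      (CT.isCharacter_of_isIrr hφ), Nat.cast_ne_zero]
    have := hpos hψ h1
    omega
  have hdχ := CT.clifford_mult N hχ hφ hcon
  have hdψ := CT.deg_eq_of_over N hφ T hT hNT hψ h1
  have hdi : CT.deg χ = T.index * CT.deg ψ := by
    have h2 := CT.deg_eq (CT.isCharacter_of_isIrr hχ)
    rw [hχdef, CT.indFun_one_eval, CT.deg_eq (CT.isCharacter_of_isIrr hψ)] at h2
    exact_mod_cast h2.symm
  rw [← hT, hdi, hdψ] at hdχ
  have h0 : 0 < T.index * CT.deg φ :=
    Nat.mul_pos (Nat.pos_of_ne_zero Subgroup.index_ne_zero_of_finite) (CT.deg_pos hφ)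
  have := hpos hψ' h1'
  nlinarith [hle, hdχ, h0, this]

end Cfsg.Agent.RealOddCount
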