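import Cfsg.Agent.Lib.RealOddCount.Lin
import Cfsg.Agent.Lib.Glauberman.Constituent

/-!
# Linear extensions to the inertia group
-/

set_option autoImplicit false
set_option linter.all false

open scoped ComplexConjugate

namespace Cfsg.Agent.RealOddCount

open Cfsg.Agent

universe u

variable {G : Type u} [Group G] [Fintype G] (M : Subgroup G) [hM : M.Normal] [Fintype M]

variable (lam : M →* ℂˣ) (T : Subgroup G) [Fintype T] (hT : T = CT.inertia M (fn M lam))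
  (hMT : M ≤ T)

/-- Lying over, inside the inertia group. -/
def OverT (ψ : T → ℂ) : Prop := Cfsg.classInner (CT.resTo M T hMT ψ) (fn M lam) ≠ 0

include hT in
theorem apply_of_overT {ψ : T → ℂ} (hψ : Cfsg.IsIrrCharacter T ψ) (h : OverT M lam T hMT ψ) (m : M) :
    ψ ⟨m, hMT m.2⟩ = (lam m : ℂ) * ψ 1 := by
  have hres := CT.resTo_eq_smul M (CT.isIrrCharacter_lin lam) T hT hMT hψ h
  have e1 : ψ ⟨m, hMT m.2⟩ = Cfsg.classInner (CT.resTo M T hMT ψ) (fn M lam) * (lam m : ℂ) :=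
    congrFun hres m
  have e2 : ψ 1 = Cfsg.classInner (CT.resTo M T hMT ψ) (fn M lam) := by
    have h := congrFun hres (1 : M)
    have h1 : (CT.resTo M T hMT ψ) (1 : M) = ψ 1 := congrArg ψ (Subtype.ext rfl)
    rw [h1, Pi.smul_apply, smul_eq_mul] at h
    rw [h]
    show _ * ((lam 1 : ℂˣ) : ℂ) = _
    rw [map_one, Units.val_one, mul_one]
  rw [e1, ← e2, mul_comm]

theorem overT_of_apply {ψ : T → ℂ} (hψ : Cfsg.IsIrrCharacter T ψ)
    (h : ∀ m : M, ψ ⟨m, hMT m.2⟩ = (lam m : ℂ) * ψ 1) : OverT M lam T hMT ψ := by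
  show Cfsg.classInner (CT.resTo M T hMT ψ) (fn M lam) ≠ 0
  rw [show CT.resTo M T hMT ψ = ψ 1 • fn M lam from funext fun m => (h m).trans (mul_comm _ _),
    CT.classInner_smul_left, CT.irr_inner_self (CT.isIrrCharacter_lin lam), mul_one]
  exact CT.irr_one_ne_zero hψ

include hT in
theorem over_ind {ψ : T → ℂ} (hψ : Cfsg.IsIrrCharacter T ψ) (h : OverT M lam T hMT ψ) :
    Over M (Cfsg.indFun T ψ) lam := by
  classical
  have hχ := CT.isIrr_indFun_of_over M (CT.isIrrCharacter_lin lam) T hT hMT hψ h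
  have hres := CT.isCharacter_restrict T (CT.isCharacter_of_isIrr hχ)
  have h1 : CT.mult (fun t : T => Cfsg.indFun T ψ t) ψ = 1 := by
    apply Nat.cast_injective (R := ℂ)
    rw [← CT.mult_spec hres (CT.isCharacter_of_isIrr hψ),
      CT.classInner_comm_of_char hres (CT.isCharacter_of_isIrr hψ),
      ← CT.frobenius_reciprocity T ψ (CT.isClassFunction_of_isIrr hχ), CT.irr_inner_self hχ,
      Nat.cast_one]
  haveI := CT.irr_finite T
  show Cfsg.classInner _ _ ≠ 0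
  rw [CT.mult_spec (CT.isCharacter_restrict M (CT.isCharacter_of_isIrr hχ))
    (CT.isCharacter_of_isIrr (CT.isIrrCharacter_lin lam)), Nat.cast_ne_zero,
    CT.sum_mult_over M (CT.isIrrCharacter_lin lam) T hMT (CT.isCharacter_of_isIrr hχ)]
  refine Nat.ne_of_gt (lt_of_lt_of_le ?_ (Finset.single_le_sum (fun _ _ => Nat.zero_le _)
    (Finset.mem_univ (⟨ψ, hψ⟩ : Cfsg.IrrCharacter T))))
  rw [h1, one_mul]
  refine Nat.pos_of_ne_zero fun h0 => h ?_
  rw [CT.mult_spec (CT.isCharacter_resTo M T hMT (CT.isCharacter_of_isIrr hψ))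
    (CT.isCharacter_of_isIrr (CT.isIrrCharacter_lin lam)), h0, Nat.cast_zero]

include hT in
/-- The determinant extends a power of the linear character. -/
theorem exists_det_ext {ψ : T → ℂ} (hψ : Cfsg.IsIrrCharacter T ψ) (h : OverT M lam T hMT ψ) :
    ∃ e : T →* ℂˣ, (∀ m : M, e ⟨m, hMT m.2⟩ = lam m ^ CT.deg ψ) ∧ (IsReal ψ → e ^ 2 = 1) := by
  have h0 := apply_of_overT M lam T hT hMT hψ h
  obtain ⟨d, ρ, hρ, rfl⟩ := hψ
  refine ⟨CoprimeExt.detHom ρ, fun m => ?_, detHom_sq_of_real ρ⟩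
  rw [CT.deg_eq_finrank, Module.finrank_fin_fun]
  exact detHom_restrict ρ (M.subgroupOf T)
    (lam.comp (Subgroup.subgroupOfEquivOfLe hMT).toMonoidHom) (fun x => h0 ⟨_, x.2⟩)
    ⟨⟨m, hMT m.2⟩, m.2⟩

include hT in
/-- Characters over a character of a subgroup containing `M`. -/
theorem overT_of_constituent (PT : Subgroup T) [Fintype PT] (hMP : ∀ m : M, (⟨m, hMT m.2⟩ : T) ∈ PT)
    (μ : PT →* ℂˣ) (hμ : ∀ m : M, μ ⟨_, hMP m⟩ = lam m) (ψ : Cfsg.IrrCharacter T)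
    (h : CT.mult (Cfsg.indFun PT fun x => (μ x : ℂ)) (ψ : T → ℂ) ≠ 0) :
    OverT M lam T hMT (ψ : T → ℂ) := by
  classical
  have hf := CT.isCharacter_indFun PT (CT.isCharacter_lin μ)
  have hres : CT.resTo M T hMT (Cfsg.indFun PT fun x => (μ x : ℂ)) =
      (PT.index : ℂ) • fn M lam := by
    funext m
    show Cfsg.indFun PT _ (⟨m, hMT m.2⟩ : T) = _
    rw [Cfsg.indFun]
    have hval : ∀ t : T, Cfsg.extendByZero PT (fun x => (μ x : ℂ)) (t⁻¹ * ⟨m, hMT m.2⟩ * t) =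
        (lam m : ℂ) := by
      intro t
      have ht := (mem_inertia_lin M).mp (hT.le (inv_mem t.2))
      have e : t⁻¹ * (⟨m, hMT m.2⟩ : T) * t =
          ⟨((⟨(t : G)⁻¹ * m * ((t : G)⁻¹)⁻¹, hM.conj_mem (m : G) m.2 _⟩ : M) : G),
            hMT (hM.conj_mem (m : G) m.2 _)⟩ := Subtype.ext (by simp)
      rw [e, CT.extendByZero_mem PT _ (hMP _), hμ]
      exact congrArg Units.val (DFunLike.congr_fun ht m)
    rw [Finset.sum_congr rfl fun t _ => hval t, Finset.sum_const, Finset.card_univ,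
      ← Nat.card_eq_fintype_card, nsmul_eq_mul, Pi.smul_apply, smul_eq_mul, ← mul_assoc]
    congr 1
    have := PT.index_mul_card
    have hne : (Nat.card PT : ℂ) ≠ 0 := CT.card_ne_zero
    rw [← this]
    push_cast
    field_simp
  let MT : Subgroup T := M.subgroupOf T
  let e : MT ≃* M := Subgroup.subgroupOfEquivOfLe hMT
  haveI : Fintype MT := Fintype.ofFinite _
  obtain ⟨η, hη⟩ := CT.exists_constituent_restrict MT ψ.2
  have h3 : Cfsg.classInner (Cfsg.indFun PT fun x => (μ x : ℂ)) (ψ : T → ℂ) ≠ 0 := by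
    rw [CT.mult_spec hf (CT.isCharacter_of_isIrr ψ.2), Nat.cast_ne_zero]
    exact h
  have h4 := CT.classInner_eq_of_res_ne_zero hf ψ.2 (CT.isCharacter_of_isIrr η.2) h3 hη
  rw [show (fun x : MT => Cfsg.indFun PT (fun x => (μ x : ℂ)) x) =
      (PT.index : ℂ) • fun x : MT => fn M lam (e x) from funext fun x => congrFun hres (e x),
    CT.classInner_smul_left] at h4
  have hlin : Cfsg.IsIrrCharacter MT (fun x : MT => fn M lam (e x)) :=
    CT.isIrrCharacter_lin (lam.comp e.toMonoidHom)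
  have hη' := CT.eq_of_inner_ne_zero hlin η.2 (right_ne_zero_of_mul h4)
  rw [← hη'] at hη
  show Cfsg.classInner _ _ ≠ 0
  rw [← Glauberman.classInner_comp_equiv e]
  exact hη

include hT in
/-- A real linear extension, from a real one on the Sylow subgroup. -/
theorem exists_real_ext (PT : Subgroup T) [Fintype PT] (hodd : Odd PT.index)
    (hMP : ∀ m : M, (⟨m, hMT m.2⟩ : T) ∈ PT) (μ : PT →* ℂˣ) (hμ2 : μ ^ 2 = 1)
    (hμ : ∀ m : M, μ ⟨_, hMP m⟩ = lam m) :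
    ∃ e : T →* ℂˣ, e ^ 2 = 1 ∧ ∀ m : M, e ⟨m, hMT m.2⟩ = lam m := by
  have hf := CT.isCharacter_indFun PT (CT.isCharacter_lin μ)
  have hr : IsReal (Cfsg.indFun PT fun x => (μ x : ℂ)) := fun g => by
    rw [conj_indFun]
    exact congrFun (congrArg _ (funext fun x => isReal_lin hμ2 x)) g
  have hdeg : CT.deg (Cfsg.indFun PT fun x => (μ x : ℂ)) = PT.index := by
    simp [CT.deg, CT.indFun_one_eval]
  obtain ⟨ψ, hψr, hψo⟩ := exists_real_odd_constituent hf hr (hdeg ▸ hodd)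
  obtain ⟨h1, h2⟩ := Nat.odd_mul.mp hψo
  have hover := overT_of_constituent M lam T hT hMT PT hMP μ hμ ψ
    (fun h0 => by rw [h0] at h1; exact Nat.not_odd_zero h1)
  obtain ⟨e, he, he2⟩ := exists_det_ext M lam T hT hMT ψ.2 hover
  refine ⟨e, he2 hψr, fun m => ?_⟩
  rw [he]
  obtain ⟨k, hk⟩ := h2
  have : lam m ^ 2 = 1 := by
    rw [← hμ, ← MonoidHom.pow_apply, hμ2]; rfl
  rw [hk, pow_succ, pow_mul, this, one_pow, one_mul]

include hT in
/-- A linear extension of a character of order two which extends to the Sylow subgroup. -/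
theorem exists_odd_ext (PT : Subgroup T) [Fintype PT] (hodd : Odd PT.index)
    (hMP : ∀ m : M, (⟨m, hMT m.2⟩ : T) ∈ PT) (μ : PT →* ℂˣ) (hlam : lam ^ 2 = 1)
    (hμ : ∀ m : M, μ ⟨_, hMP m⟩ = lam m) :
    ∃ e : T →* ℂˣ, ∀ m : M, e ⟨m, hMT m.2⟩ = lam m := by
  classical
  have hf := CT.isCharacter_indFun PT (CT.isCharacter_lin μ)
  have hdeg : CT.deg (Cfsg.indFun PT fun x => (μ x : ℂ)) = PT.index := by
    simp [CT.deg, CT.indFun_one_eval]
  haveI := CT.irr_finite T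
  haveI := Fintype.ofFinite (Cfsg.IrrCharacter T)
  have hsum : CT.deg (Cfsg.indFun PT fun x => (μ x : ℂ)) = ∑ χ : Cfsg.IrrCharacter T,
      CT.mult (Cfsg.indFun PT fun x => (μ x : ℂ)) (χ : T → ℂ) * CT.deg (χ : T → ℂ) := by
    apply Nat.cast_injective (R := ℂ)
    rw [← CT.deg_eq hf]
    conv_lhs => rw [CT.character_eq_sum hf]
    rw [Finset.sum_apply]
    push_cast
    refine Finset.sum_congr (Finset.ext fun _ => by simp) fun χ _ => ?_
    rw [Pi.smul_apply, smul_eq_mul, CT.deg_eq (CT.isCharacter_of_isIrr χ.2)]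
  obtain ⟨ψ, hψo⟩ : ∃ ψ : Cfsg.IrrCharacter T,
      Odd (CT.mult (Cfsg.indFun PT fun x => (μ x : ℂ)) (ψ : T → ℂ) * CT.deg (ψ : T → ℂ)) := by
    by_contra hno
    push Not at hno
    rw [← hdeg, hsum] at hodd
    refine Nat.not_odd_iff_even.mpr ?_ hodd
    exact Finset.even_sum _ fun χ _ => Nat.not_odd_iff_even.mp (hno χ)
  obtain ⟨h1, h2⟩ := Nat.odd_mul.mp hψo
  have hover := overT_of_constituent M lam T hT hMT PT hMP μ hμ ψ
    (fun h0 => by rw [h0] at h1; exact Nat.not_odd_zero h1)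
  obtain ⟨e, he, -⟩ := exists_det_ext M lam T hT hMT ψ.2 hover
  refine ⟨e, fun m => ?_⟩
  rw [he]
  obtain ⟨k, hk⟩ := h2
  have : lam m ^ 2 = 1 := by
    rw [← MonoidHom.pow_apply, hlam]; rfl
  rw [hk, pow_succ, pow_mul, this, one_pow, one_mul]

/-- Multiplying by a linear character. -/
noncomputable def twist (e : T →* ℂˣ) (ψ : Cfsg.IrrCharacter T) : Cfsg.IrrCharacter T :=
  ⟨fun t => (e t : ℂ) * (ψ : T → ℂ) t, Glauberman.isIrr_twist ψ.2 e⟩

omit [Fintype G] in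
theorem deg_twist (e : T →* ℂˣ) (ψ : Cfsg.IrrCharacter T) :
    CT.deg (twist T e ψ : T → ℂ) = CT.deg (ψ : T → ℂ) := by
  simp [CT.deg, twist]

theorem overT_twist (e : T →* ℂˣ) (he : ∀ m : M, e ⟨m, hMT m.2⟩ = lam m) (ν : Cfsg.IrrCharacter T)
    (hν : ∀ k ∈ M.subgroupOf T, (ν : T → ℂ) k = (ν : T → ℂ) 1) :
    OverT M lam T hMT (twist T e ν : T → ℂ) := by
  refine overT_of_apply M lam T hMT (twist T e ν).2 fun m => ?_
  show (e _ : ℂ) * (ν : T → ℂ) _ = _ * ((e 1 : ℂ) * (ν : T → ℂ) 1)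
  rw [he, hν ⟨m, hMT m.2⟩ m.2, map_one, Units.val_one, one_mul]

include hT in
theorem trivial_twist (e : T →* ℂˣ) (he : ∀ m : M, e ⟨m, hMT m.2⟩ = lam m) (hlam : lam ^ 2 = 1)
    (ψ : Cfsg.IrrCharacter T) (h : OverT M lam T hMT (ψ : T → ℂ)) :
    ∀ k ∈ M.subgroupOf T, (twist T e ψ : T → ℂ) k = (twist T e ψ : T → ℂ) 1 := by
  rintro ⟨k, hkT⟩ hk
  have h0 := apply_of_overT M lam T hT hMT ψ.2 h ⟨k, hk⟩
  show (e _ : ℂ) * (ψ : T → ℂ) _ = (e 1 : ℂ) * (ψ : T → ℂ) 1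
  rw [map_one, Units.val_one, one_mul, he ⟨k, hk⟩, h0, ← mul_assoc, ← Units.val_mul, ← pow_two,
    ← MonoidHom.pow_apply, hlam, MonoidHom.one_apply, Units.val_one, one_mul]

end Cfsg.Agent.RealOddCount
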