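import Cfsg.Agent.Lib.RealOddCount.Main
import Cfsg.Agent.Lib.FGB.PGroupBasic
import Cfsg.Agent.Lib.LocalEvenA.FrattiniP
import Mathlib.GroupTheory.Abelianization.Defs
import Mathlib.GroupTheory.FiniteAbelian.Duality
import Mathlib.RingTheory.RootsOfUnity.AlgebraicallyClosed
import Mathlib.Analysis.Complex.Polynomial.Basic

/-!
# The normalizer and the Frattini quotient
-/

set_option autoImplicit false
set_option linter.all false

namespace Cfsg.Agent.RealOddCount

open Cfsg.Agent

universe u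

variable {G : Type u} [Group G] [Finite G]

theorem card_orb_normalizer (P N : Subgroup G) (hN : N = Subgroup.normalizer (P : Set G))
    (hPN : P ≤ N) :
    Nat.card (Orb P (⊥ : Subgroup G)) = Nat.card (Orb (P.subgroupOf N) (⊥ : Subgroup N)) := by
  let ε := Subgroup.subgroupOfEquivOfLe hPN
  have hpow : ∀ (A B : Type u) [Group A] [Group B] (f : B →* A) (μ : A →* ℂˣ), μ ^ 2 = 1 →
      (μ.comp f) ^ 2 = 1 := fun A B _ _ f μ h => MonoidHom.ext fun b => by
    rw [MonoidHom.pow_apply, MonoidHom.comp_apply, ← MonoidHom.pow_apply, h]; rfl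
  let E : TwoLin P (⊥ : Subgroup G) ≃ TwoLin (P.subgroupOf N) (⊥ : Subgroup N) :=
    { toFun := fun μ => ⟨μ.1.comp ε.toMonoidHom, hpow _ _ _ _ μ.2.1, fun p hp => by
        rw [show p = 1 from Subtype.ext (Subgroup.mem_bot.mp hp), map_one]⟩
      invFun := fun μ => ⟨μ.1.comp ε.symm.toMonoidHom, hpow _ _ _ _ μ.2.1, fun p hp => by
        rw [show p = 1 from Subtype.ext (Subgroup.mem_bot.mp hp), map_one]⟩
      left_inv := fun μ => Subtype.ext (MonoidHom.ext fun p => congrArg μ.1 (ε.apply_symm_apply p))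
      right_inv := fun μ => Subtype.ext (MonoidHom.ext fun p => congrArg μ.1 (ε.symm_apply_apply p)) }
  refine Nat.card_congr (Quotient.congr E fun μ μ' => ⟨?_, ?_⟩)
  · rintro ⟨n, hn, h⟩
    refine ⟨⟨n, hN.symm.le hn⟩, ?_, fun p p' hp => h (ε p) (ε p') (congrArg Subtype.val hp)⟩
    rw [Subgroup.mem_normalizer_iff]
    exact fun y => Subgroup.mem_normalizer_iff.mp hn (y : G)
  · rintro ⟨n, -, h⟩
    refine ⟨n, hN.le n.2, fun p p' hp => ?_⟩
    have := h (ε.symm p) (ε.symm p') (Subtype.ext hp)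
    exact this

theorem cond_bot_iff (P : Subgroup G) (hP : IsPGroup 2 P) :
    Cond P (⊥ : Subgroup G) ↔
      (commutator P = frattini P ∧ Subgroup.normalizer (P : Set G) = P) := by
  classical
  haveI : Fact (Nat.Prime 2) := ⟨Nat.prime_two⟩
  constructor
  · rintro ⟨h1, h2⟩
    refine ⟨le_antisymm ((Subgroup.commutator_le (H₁ := (⊤ : Subgroup P)) (H₂ := ⊤)).mpr fun a _ b _ => FGB.commutatorElement_mem_frattini hP a b) ?_, le_antisymm (fun n hn => ?_)
      Subgroup.le_normalizer⟩
    · refine (LocalEvenA.frattini_le_commutator_sup_pow (p := 2) (Q := P)).trans (sup_le le_rfl ?_)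
      rw [Subgroup.closure_le]
      rintro _ ⟨x, rfl⟩
      by_contra hx
      have hx' : (Abelianization.of (x ^ 2) : Abelianization P) ≠ 1 := fun e =>
        hx ((QuotientGroup.eq_one_iff _).mp e)
      obtain ⟨φ, hφ⟩ := CommGroup.exists_apply_ne_one_of_hasEnoughRootsOfUnity (Abelianization P) ℂ hx'
      refine hφ ?_
      have h := DFunLike.congr_fun (h1 (φ.comp Abelianization.of) fun p hp => by
        rw [show p = 1 from Subtype.ext (Subgroup.mem_bot.mp hp), map_one]) x
      rw [MonoidHom.pow_apply, MonoidHom.comp_apply, ← map_pow, ← map_pow] at h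
      exact h
    · have := h2 n hn
      rwa [sup_bot_eq] at this
  · rintro ⟨h1, h2⟩
    refine ⟨fun μ _ => MonoidHom.ext fun x => ?_, fun n hn => ?_⟩
    · rw [MonoidHom.pow_apply, ← map_pow, MonoidHom.one_apply]
      have hx : x ^ 2 ∈ commutator P := h1 ▸ FGB.pow_mem_frattini hP x
      exact Abelianization.commutator_subset_ker μ hx
    · rw [sup_bot_eq]
      exact h2 ▸ hn

end Cfsg.Agent.RealOddCount
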