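import Cfsg.Agent.Lib.RealOddCount.Orbit

/-!
# Linear constituents on an abelian normal subgroup
-/

set_option autoImplicit false
set_option linter.all false

open scoped ComplexConjugate

namespace Cfsg.Agent.RealOddCount

open Cfsg.Agent

universe u

/-- Real odd-degree irreducible characters trivial on `K`. -/
abbrev RO {G : Type u} [Group G] (K : Subgroup G) : Type u :=
  {χ : Cfsg.IrrCharacter G //
    (IsReal (χ : G → ℂ) ∧ Odd (CT.deg (χ : G → ℂ))) ∧ ∀ k ∈ K, (χ : G → ℂ) k = (χ : G → ℂ) 1}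

/-- All odd-degree irreducible characters trivial on `K` are real. -/
def AR {G : Type u} [Group G] (K : Subgroup G) : Prop :=
  ∀ χ : Cfsg.IrrCharacter G, Odd (CT.deg (χ : G → ℂ)) → (∀ k ∈ K, (χ : G → ℂ) k = (χ : G → ℂ) 1) →
    IsReal (χ : G → ℂ)

section Quot

variable {G : Type u} [Group G] [Finite G] (K : Subgroup G) [K.Normal]

theorem card_RO_quotient : Nat.card (RO K) = Nat.card (RO (⊥ : Subgroup (G ⧸ K))) := by
  classical
  let F : RO (⊥ : Subgroup (G ⧸ K)) → RO K := fun ψ =>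
    ⟨⟨_, CT.isIrrCharacter_comp (QuotientGroup.mk' K) (QuotientGroup.mk'_surjective K) ψ.1.2⟩,
      ⟨fun g => ψ.2.1.1 _, by
        have : CT.deg (fun x : G => (ψ.1 : G ⧸ K → ℂ) (QuotientGroup.mk' K x)) =
            CT.deg (ψ.1 : G ⧸ K → ℂ) := by simp [CT.deg]
        show Odd (CT.deg fun x : G => (ψ.1 : G ⧸ K → ℂ) (QuotientGroup.mk' K x))
        rw [this]
        exact ψ.2.1.2⟩,
      fun k hk => congrArg (ψ.1 : G ⧸ K → ℂ) (((QuotientGroup.eq_one_iff k).mpr hk).trans (map_one _).symm)⟩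
  refine (Nat.card_congr (Equiv.ofBijective F ⟨fun a b h => ?_, fun χ => ?_⟩)).symm
  · refine Subtype.ext (Subtype.ext (funext fun q => ?_))
    obtain ⟨g, rfl⟩ := QuotientGroup.mk'_surjective K q
    exact congrFun (congrArg (fun z : RO K => (z.1 : G → ℂ)) h) g
  · obtain ⟨ψ, hψ, hψχ⟩ := CT.exists_quotient_irr χ.1.2 K χ.2.2
    refine ⟨⟨⟨ψ, hψ⟩, ⟨fun q => ?_, ?_⟩, fun k hk => by rw [Subgroup.mem_bot.mp hk]⟩,
      Subtype.ext (Subtype.ext (funext fun g => hψχ g))⟩
    · obtain ⟨g, rfl⟩ := QuotientGroup.mk_surjective q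
      show conj (ψ _) = ψ _
      rw [hψχ]
      exact χ.2.1.1 g
    · have : CT.deg ψ = CT.deg (χ.1 : G → ℂ) := by
        simp only [CT.deg, ← hψχ 1, QuotientGroup.mk_one]
      show Odd (CT.deg ψ)
      rw [this]
      exact χ.2.1.2

theorem AR_quotient : AR K ↔ AR (⊥ : Subgroup (G ⧸ K)) := by
  constructor
  · intro h ψ hodd _ q
    obtain ⟨g, rfl⟩ := QuotientGroup.mk'_surjective K q
    refine h ⟨_, CT.isIrrCharacter_comp (QuotientGroup.mk' K) (QuotientGroup.mk'_surjective K) ψ.2⟩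
      ?_ (fun k hk => congrArg (ψ : G ⧸ K → ℂ) (((QuotientGroup.eq_one_iff k).mpr hk).trans (map_one _).symm)) g
    have : CT.deg (fun x : G => (ψ : G ⧸ K → ℂ) (QuotientGroup.mk' K x)) =
        CT.deg (ψ : G ⧸ K → ℂ) := by simp [CT.deg]
    show Odd (CT.deg fun x : G => (ψ : G ⧸ K → ℂ) (QuotientGroup.mk' K x))
    rw [this]
    exact hodd
  · intro h χ hodd htriv g
    obtain ⟨ψ, hψ, hψχ⟩ := CT.exists_quotient_irr χ.2 K htriv
    have : CT.deg ψ = CT.deg (χ : G → ℂ) := by simp only [CT.deg, ← hψχ 1, QuotientGroup.mk_one]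
    have h' := h ⟨ψ, hψ⟩ (by show Odd (CT.deg ψ); rw [this]; exact hodd)
      (fun k hk => by rw [Subgroup.mem_bot.mp hk]) (QuotientGroup.mk g)
    show conj ((χ : G → ℂ) g) = _
    rw [← hψχ]
    exact h'

end Quot

variable {G : Type u} [Group G] (M : Subgroup G) [hM : M.Normal]

/-- A linear character of `M` as a function. -/
abbrev fn (lam : M →* ℂˣ) : M → ℂ := fun m => (lam m : ℂ)

/-- Conjugate linear character. -/
def lamConj (g : G) (lam : M →* ℂˣ) : M →* ℂˣ where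
  toFun m := lam ⟨g * m * g⁻¹, hM.conj_mem (m : G) m.2 g⟩
  map_one' := by
    rw [← map_one lam]
    exact congrArg lam (Subtype.ext (by simp))
  map_mul' a b := by
    rw [← map_mul lam]
    exact congrArg lam (Subtype.ext (by simp [mul_assoc]))

theorem fn_lamConj (g : G) (lam : M →* ℂˣ) : fn M (lamConj M g lam) = CT.conjFun M g (fn M lam) := rfl

theorem mem_inertia_lin {g : G} {lam : M →* ℂˣ} :
    g ∈ CT.inertia M (fn M lam) ↔ lamConj M g lam = lam := by
  rw [CT.mem_inertia, ← fn_lamConj]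
  exact ⟨lin_eq_of_coe, fun h => by rw [h]⟩

theorem lamConj_mul (g h : G) (lam : M →* ℂˣ) :
    lamConj M (g * h) lam = lamConj M h (lamConj M g lam) :=
  lin_eq_of_coe (by
    show CT.conjFun M (g * h) (fn M lam) = CT.conjFun M h (CT.conjFun M g (fn M lam))
    rw [CT.conjFun_mul])

theorem lamConj_one (lam : M →* ℂˣ) : lamConj M 1 lam = lam :=
  lin_eq_of_coe (CT.conjFun_one M (fn M lam))

variable [Fintype G] [Fintype M]

/-- Being a constituent of the restriction. -/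
def Over (χ : G → ℂ) (lam : M →* ℂˣ) : Prop := Cfsg.classInner (fun m : M => χ m) (fn M lam) ≠ 0

theorem over_conj {χ : G → ℂ} (hχ : Cfsg.IsClassFunction G χ) (lam : M →* ℂˣ) (g : G)
    (h : Over M χ lam) : Over M χ (lamConj M g lam) := by
  show Cfsg.classInner _ (fn M (lamConj M g lam)) ≠ 0
  rw [fn_lamConj, CT.classInner_restrict_conjFun M hχ]
  exact h

theorem over_unique {χ : G → ℂ} (hχ : Cfsg.IsIrrCharacter G χ) {a b : M →* ℂˣ} (ha : Over M χ a)
    (hb : Over M χ b) : ∃ g : G, lamConj M g a = b := by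
  obtain ⟨g, hg⟩ := CT.exists_conj_of_constituent M hχ (CT.isIrrCharacter_lin a)
    (CT.isIrrCharacter_lin b) ha hb
  exact ⟨g, lin_eq_of_coe hg⟩

theorem exists_over (hc : ∀ a b : M, a * b = b * a) {χ : G → ℂ} (hχ : Cfsg.IsIrrCharacter G χ) :
    ∃ lam : M →* ℂˣ, Over M χ lam := by
  obtain ⟨η, hη⟩ := CT.exists_constituent_restrict M hχ
  obtain ⟨lam, hlam⟩ := CT.exists_hom_of_comm hc η.2
  refine ⟨lam, ?_⟩
  show Cfsg.classInner _ (fn M lam) ≠ 0
  rw [show fn M lam = (η : M → ℂ) from hlam.symm]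
  exact hη

theorem odd_inertia {χ : G → ℂ} (hχ : Cfsg.IsIrrCharacter G χ) (hodd : Odd (CT.deg χ))
    {lam : M →* ℂˣ} (h : Over M χ lam) : Odd (CT.inertia M (fn M lam)).index := by
  rw [CT.clifford_mult M hχ (CT.isIrrCharacter_lin lam) h] at hodd
  exact (Nat.odd_mul.mp (Nat.odd_mul.mp hodd).1).2

/-- A constituent fixed by the Sylow subgroup. -/
theorem exists_over_fixed (hc : ∀ a b : M, a * b = b * a) {P : Subgroup G} (hP : IsPGroup 2 P)
    {χ : G → ℂ} (hχ : Cfsg.IsIrrCharacter G χ) (hodd : Odd (CT.deg χ)) :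
    ∃ lam : M →* ℂˣ, Over M χ lam ∧ P ≤ CT.inertia M (fn M lam) := by
  obtain ⟨a, ha⟩ := exists_over M hc hχ
  obtain ⟨g, hg⟩ := exists_conj_le hP (odd_inertia M hχ hodd ha)
  refine ⟨lamConj M g a, over_conj M (CT.isClassFunction_of_isIrr hχ) a g ha, fun x hx => ?_⟩
  rw [mem_inertia_lin, ← lamConj_mul, show g * x = g * x * g⁻¹ * g by group, lamConj_mul,
    (mem_inertia_lin M).mp (hg x hx)]

/-- The real case on a subgroup of odd order. -/
theorem real_trivial_of_odd (hc : ∀ a b : M, a * b = b * a) (hodd : Odd (Nat.card M)) {χ : G → ℂ}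
    (hχ : Cfsg.IsIrrCharacter G χ) (hr : IsReal χ) (hd : Odd (CT.deg χ)) :
    ∀ m ∈ M, χ m = χ 1 := by
  classical
  haveI : Fact (Nat.Prime 2) := ⟨Nat.prime_two⟩
  obtain ⟨a, ha⟩ := exists_over M hc hχ
  let S := {ψ : M → ℂ // ψ ∈ CT.conjOrbit M (fn M a)}
  have hclosed : ∀ ψ : S, (fun m => conj (ψ.1 m)) ∈ CT.conjOrbit M (fn M a) := by
    rintro ⟨ψ, hψ⟩
    obtain ⟨g, rfl⟩ := (CT.mem_conjOrbit M).mp hψ
    refine (CT.mem_conjOrbit M).mpr (CT.exists_conj_of_constituent M hχ (CT.isIrrCharacter_lin a)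
      (CT.conj_irr (CT.isIrrCharacter_conjFun M g (CT.isIrrCharacter_lin a))) ha ?_)
    have e : Cfsg.classInner (fun m : M => χ m) (fun m => conj (CT.conjFun M g (fn M a) m)) =
        conj (Cfsg.classInner (fun m : M => χ m) (CT.conjFun M g (fn M a))) := by
      simp only [Cfsg.classInner, map_mul, map_inv₀, map_natCast, map_sum, Complex.conj_conj,
        (show ∀ g, conj (χ g) = χ g from hr)]
    show Cfsg.classInner (fun m : M => χ m) (fun m => conj (CT.conjFun M g (fn M a) m)) ≠ 0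
    rw [e, CT.classInner_restrict_conjFun M (CT.isClassFunction_of_isIrr hχ), map_ne_zero]
    exact ha
  let σ : Equiv.Perm S :=
    { toFun := fun ψ => ⟨fun m => conj (ψ.1 m), hclosed ψ⟩
      invFun := fun ψ => ⟨fun m => conj (ψ.1 m), hclosed ψ⟩
      left_inv := fun ψ => Subtype.ext (funext fun m => Complex.conj_conj _)
      right_inv := fun ψ => Subtype.ext (funext fun m => Complex.conj_conj _) }
  have hcard : ¬ 2 ∣ Fintype.card S := by
    rw [Fintype.card_coe, CT.card_conjOrbit, ← even_iff_two_dvd, Nat.not_even_iff_odd]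
    exact odd_inertia M hχ hd ha
  obtain ⟨⟨ψ, hψ⟩, hfix⟩ := Equiv.Perm.exists_fixed_point_of_prime (p := 2) (n := 1) hcard (σ := σ)
    (Equiv.ext fun ψ => by
      rw [pow_one, pow_two, Equiv.Perm.mul_apply]
      exact Subtype.ext (funext fun m => Complex.conj_conj _))
  obtain ⟨g, rfl⟩ := (CT.mem_conjOrbit M).mp hψ
  have hb : IsReal (fn M (lamConj M g a)) := fun m =>
    congrFun (congrArg Subtype.val hfix) m
  have h1 := lin_sq_of_real hb
  have h2 : lamConj M g a = 1 := by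
    refine MonoidHom.ext fun m => ?_
    have hm1 : (lamConj M g a m) ^ 2 = 1 := by rw [← MonoidHom.pow_apply, h1]; rfl
    have hm2 : (lamConj M g a m) ^ Nat.card M = 1 := by rw [← map_pow, pow_card_eq_one', map_one]
    have hg1 := pow_gcd_eq_one.mpr ⟨hm1, hm2⟩
    rwa [Nat.coprime_two_left.mpr hodd, pow_one] at hg1
  have hov : Over M χ (1 : M →* ℂˣ) := h2 ▸ over_conj M (CT.isClassFunction_of_isIrr hχ) a g ha
  have hres := CT.restrict_eq_smul_of_invariant M hχ (CT.isIrrCharacter_lin (1 : M →* ℂˣ)) hov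
    (fun x => funext fun m => by simp [CT.conjFun])
  intro m hm
  have e1 := congrFun hres ⟨m, hm⟩
  have e2 := congrFun hres 1
  simp only [Pi.smul_apply, MonoidHom.one_apply, OneMemClass.coe_one] at e1 e2
  rw [e1, e2]

end Cfsg.Agent.RealOddCount
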