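import Cfsg.Agent.Lib.RealOddCount.TwoCorr

/-!
# Reduction modulo a normal subgroup of exponent two
-/

set_option autoImplicit false
set_option linter.all false

open scoped ComplexConjugate

namespace Cfsg.Agent.RealOddCount

open Cfsg.Agent

universe u

variable {G : Type u} [Group G] [Fintype G] (M : Subgroup G) [hM : M.Normal] [Fintype M]
  (hc : ∀ a b : M, a * b = b * a) (h2 : ∀ m : M, m ^ 2 = 1) {P : Subgroup G} (hP : IsTwoHall P)
  (hMP : M ≤ P)

omit hM in
include h2 in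
theorem lin_exp_two (lam : M →* ℂˣ) : lam ^ 2 = 1 :=
  MonoidHom.ext fun m => by
    rw [MonoidHom.pow_apply, ← map_pow, h2, map_one, MonoidHom.one_apply]

/-- Restriction of a linear character of the Sylow subgroup. -/
def resM (μ : P →* ℂˣ) : M →* ℂˣ := μ.comp (Subgroup.inclusion hMP)

theorem le_inertia_resM (μ : P →* ℂˣ) : P ≤ CT.inertia M (fn M (resM M hMP μ)) := by
  intro x hx
  rw [mem_inertia_lin]
  refine MonoidHom.ext fun m => ?_
  show μ ⟨x * m * x⁻¹, _⟩ = μ ⟨m, hMP m.2⟩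
  rw [show (⟨x * m * x⁻¹, hMP (hM.conj_mem (m : G) m.2 x)⟩ : P) =
    ⟨x, hx⟩ * ⟨m, hMP m.2⟩ * ⟨x, hx⟩⁻¹ from rfl, map_mul, map_mul, map_inv, mul_inv_cancel_comm]

theorem resM_rel {μ μ' : P →* ℂˣ} {n : G} (h : ∀ p p' : P, (p' : G) = n * p * n⁻¹ → μ' p = μ p') :
    lamConj M n (resM M hMP μ) = resM M hMP μ' :=
  MonoidHom.ext fun m => (h ⟨m, hMP m.2⟩ ⟨n * m * n⁻¹, hMP (hM.conj_mem (m : G) m.2 n)⟩ rfl).symm

/-- The classes of linear characters. -/
instance linSetoid : Setoid (M →* ℂˣ) where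
  r a b := ∃ g : G, lamConj M g a = b
  iseqv := ⟨fun a => ⟨1, lamConj_one M a⟩,
    fun {a b} ⟨g, hg⟩ => ⟨g⁻¹, by rw [← hg, ← lamConj_mul, mul_inv_cancel, lamConj_one]⟩,
    fun {a b c} ⟨g, hg⟩ ⟨g', hg'⟩ => ⟨g * g', by rw [lamConj_mul, hg, hg']⟩⟩

/-- The class of a character. -/
noncomputable def classA (χ : RO (⊥ : Subgroup G)) : Quotient (linSetoid M) :=
  Quotient.mk _ (exists_over M hc χ.1.2).choose

theorem classA_eq (χ : RO (⊥ : Subgroup G)) {lam : M →* ℂˣ} (h : Over M (χ.1 : G → ℂ) lam) :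
    classA M hc χ = Quotient.mk _ lam :=
  Quotient.sound (over_unique M χ.1.2 (exists_over M hc χ.1.2).choose_spec h)

/-- The class of an orbit. -/
def classB : Orb P (⊥ : Subgroup G) → Quotient (linSetoid M) :=
  Quotient.lift (fun μ => Quotient.mk _ (resM M hMP μ.1)) fun μ μ' h => by
    obtain ⟨n, hn, h⟩ := h
    exact Quotient.sound ⟨n, resM_rel M hMP h⟩

section Fibres

variable (lam : M →* ℂˣ) (T : Subgroup G) [Fintype T] (hT : T = CT.inertia M (fn M lam))
  (hMT : M ≤ T) (hPT : P ≤ T) (e : T →* ℂˣ) (he2 : e ^ 2 = 1)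
  (he : ∀ m : M, e ⟨m, hMT m.2⟩ = lam m)

include hc h2 hP hT hPT he2 he in
theorem card_fibreA :
    Nat.card {χ // classA M hc χ = Quotient.mk _ lam} = Nat.card (RO (M.subgroupOf T)) := by
  classical
  have hlam := lin_exp_two M h2 lam
  have hTodd : Odd T.index := hP.oddIndex.of_dvd_nat (Subgroup.index_dvd_of_le hPT)
  have hov : ∀ ν : RO (M.subgroupOf T), OverT M lam T hMT (twist T e ν.1 : T → ℂ) :=
    fun ν => overT_twist M lam T hMT e he ν.1 ν.2.2
  have hirr : ∀ ν : RO (M.subgroupOf T), Cfsg.IsIrrCharacter G (Cfsg.indFun T (twist T e ν.1 : T → ℂ)) :=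
    fun ν => CT.isIrr_indFun_of_over M (CT.isIrrCharacter_lin lam) T hT hMT (twist T e ν.1).2 (hov ν)
  let F : RO (M.subgroupOf T) → {χ // classA M hc χ = Quotient.mk _ lam} := fun ν =>
    ⟨⟨⟨_, hirr ν⟩, ⟨fun g => by
        rw [conj_indFun]
        exact congrFun (congrArg (Cfsg.indFun T) (funext (isReal_mul (isReal_lin he2) ν.2.1.1))) g, by
      show Odd (CT.deg (Cfsg.indFun T (twist T e ν.1 : T → ℂ)))
      rw [deg_indFun_lin T (CT.isCharacter_of_isIrr (twist T e ν.1).2), deg_twist]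
      exact hTodd.mul ν.2.1.2⟩, fun k hk => by rw [Subgroup.mem_bot.mp hk]⟩,
      classA_eq M hc _ (over_ind M lam T hT hMT (twist T e ν.1).2 (hov ν))⟩
  refine (Nat.card_congr (Equiv.ofBijective F ⟨fun ν ν' h => ?_, ?_⟩)).symm
  · have h1 : twist T e ν.1 = twist T e ν'.1 := Subtype.ext
      (correspondent_unique M (CT.isIrrCharacter_lin lam) T hT hMT (twist T e ν.1).2
        (twist T e ν'.1).2 (hov ν) (hov ν') (congrArg (fun z => (z.1.1 : G → ℂ)) h))
    apply Subtype.ext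
    rw [← twist_twist T e he2 ν.1, h1, twist_twist T e he2]
  · rintro ⟨χ, hχ⟩
    obtain ⟨g, hg⟩ := Quotient.exact hχ
    have hoχ : Over M (χ.1 : G → ℂ) lam :=
      hg ▸ over_conj M (CT.isClassFunction_of_isIrr χ.1.2) _ g (exists_over M hc χ.1.2).choose_spec
    obtain ⟨ψ, hind, hψo, hψov⟩ :=
      exists_odd_correspondent M lam T hT hMT χ.1.2 χ.2.1.2 hoχ
    have hψr := real_correspondent M lam T hT hMT hlam ψ.2 hψov (by rw [hind]; exact χ.2.1.1)
    refine ⟨⟨twist T e ψ, ⟨isReal_mul (isReal_lin he2) hψr, ?_⟩,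
      trivial_twist M lam T hT hMT e he hlam ψ hψov⟩, Subtype.ext (Subtype.ext (Subtype.ext ?_))⟩
    · rw [deg_twist]
      exact hψo
    · show Cfsg.indFun T (twist T e (twist T e ψ) : T → ℂ) = _
      rw [twist_twist T e he2, hind]

include hP hT hPT he2 he in
theorem card_fibreB :
    Nat.card {o : Orb P (⊥ : Subgroup G) // classB M hMP o = Quotient.mk _ lam} =
      Nat.card (Orb (P.subgroupOf T) (M.subgroupOf T)) := by
  classical
  let ι : P →* P.subgroupOf T := (Subgroup.subgroupOfEquivOfLe hPT).symm.toMonoidHom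
  have hι : ∀ p : P, (((ι p : P.subgroupOf T) : T) : G) = p := fun p => rfl
  let up : TwoLin (P.subgroupOf T) (M.subgroupOf T) → TwoLin P (⊥ : Subgroup G) := fun μ =>
    ⟨(μ.1 * e.comp (P.subgroupOf T).subtype).comp ι, MonoidHom.ext fun p => by
      rw [MonoidHom.pow_apply, MonoidHom.comp_apply, MonoidHom.mul_apply, mul_pow,
        ← MonoidHom.pow_apply, μ.2.1, MonoidHom.comp_apply, ← MonoidHom.pow_apply, he2]
      simp, fun p hp => by
      rw [show p = 1 from Subtype.ext (Subgroup.mem_bot.mp hp), map_one]⟩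
  have hres : ∀ μ, resM M hMP (up μ).1 = lam := fun μ => MonoidHom.ext fun m => by
    show μ.1 (ι ⟨m, hMP m.2⟩) * e (ι ⟨m, hMP m.2⟩ : T) = lam m
    rw [μ.2.2 _ (show ((ι ⟨m, hMP m.2⟩ : P.subgroupOf T) : T) ∈ M.subgroupOf T from m.2), one_mul]
    exact he m
  have hN : ∀ n : T, n ∈ Subgroup.normalizer ((P.subgroupOf T : Subgroup T) : Set T) ↔
      (n : G) ∈ Subgroup.normalizer (P : Set G) := by
    intro n
    rw [Subgroup.mem_normalizer_iff, Subgroup.mem_normalizer_iff]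
    refine ⟨fun h y => ⟨fun hy => (h ⟨y, hPT hy⟩).mp hy, fun hy => ?_⟩, fun h y => h (y : G)⟩
    have h' : y ∈ T := by
      have := T.mul_mem (T.mul_mem (T.inv_mem n.2) (hPT hy)) n.2
      simpa [mul_assoc] using this
    exact (h ⟨y, h'⟩).mpr hy
  have heT : ∀ (n a b : T), b = n * a * n⁻¹ → e b = e a := fun n a b h => by
    rw [h, map_mul, map_mul, map_inv, mul_inv_cancel_comm]
  let F : Orb (P.subgroupOf T) (M.subgroupOf T) →
      {o : Orb P (⊥ : Subgroup G) // classB M hMP o = Quotient.mk _ lam} :=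
    Quotient.lift (fun μ => ⟨Quotient.mk _ (up μ), congrArg (Quotient.mk _) (hres μ)⟩)
      (fun μ μ' h => by
        obtain ⟨n, hn, h⟩ := h
        refine Subtype.ext (Quotient.sound ⟨n, (hN n).mp hn, fun p p' hp => ?_⟩)
        show μ'.1 (ι p) * e (ι p : T) = μ.1 (ι p') * e (ι p' : T)
        rw [h (ι p) (ι p') (Subtype.ext hp), heT n (ι p : T) (ι p' : T) (Subtype.ext hp)])
  refine (Nat.card_congr (Equiv.ofBijective F ⟨?_, ?_⟩)).symm
  · intro a b
    induction a using Quotient.inductionOn with | _ μ =>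
    induction b using Quotient.inductionOn with | _ μ' =>
    intro h
    obtain ⟨n, hn, hr⟩ := Quotient.exact (congrArg Subtype.val h)
    have hnT : n ∈ T := by
      rw [hT, mem_inertia_lin]
      have := resM_rel M hMP hr
      rwa [hres, hres] at this
    refine Quotient.sound ⟨⟨n, hnT⟩, (hN _).mpr hn, fun q q' hq => ?_⟩
    have hp : ∀ x : P.subgroupOf T, ι ⟨((x : T) : G), x.2⟩ = x := fun x => rfl
    have h3 : μ'.1 (ι ⟨((q : T) : G), q.2⟩) * e (ι ⟨((q : T) : G), q.2⟩ : T) =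
        μ.1 (ι ⟨((q' : T) : G), q'.2⟩) * e (ι ⟨((q' : T) : G), q'.2⟩ : T) :=
      hr _ _ (congrArg Subtype.val hq)
    rw [hp, hp, heT _ _ _ hq] at h3
    exact mul_right_cancel h3
  · rintro ⟨o, ho⟩
    induction o using Quotient.inductionOn with | _ μ =>
    obtain ⟨g, hg⟩ := Quotient.exact ho.symm
    have hgT : ∀ x ∈ P, g * x * g⁻¹ ∈ T := by
      intro x hx
      have h1 : lamConj M x (resM M hMP μ.1) = resM M hMP μ.1 :=
        (mem_inertia_lin M).mp (le_inertia_resM M hMP μ.1 hx)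
      rw [hT, mem_inertia_lin, lamConj_mul, lamConj_mul, hg, h1, ← hg, ← lamConj_mul,
        mul_inv_cancel, lamConj_one]
    obtain ⟨t, ht, htn⟩ := exists_mul_mem_normalizer hP hPT hgT
    have hn : lamConj M (t * g) lam = resM M hMP μ.1 := by
      rw [lamConj_mul, (mem_inertia_lin M).mp (hT.le ht), hg]
    have hconj : ∀ q : P.subgroupOf T, (t * g)⁻¹ * ((q : T) : G) * (t * g) ∈ P := fun q => by
      have := (Subgroup.mem_normalizer_iff.mp (inv_mem htn) ((q : T) : G)).mp q.2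
      rwa [inv_inv] at this
    let ν : P.subgroupOf T →* ℂˣ := MonoidHom.mk' (fun q => μ.1 ⟨_, hconj q⟩) fun a b => by
      rw [← map_mul]
      exact congrArg μ.1 (Subtype.ext (by simp [mul_assoc]))
    refine ⟨Quotient.mk _ ⟨ν * e.comp (P.subgroupOf T).subtype, MonoidHom.ext fun q => ?_,
      fun q hq => ?_⟩, Subtype.ext (Quotient.sound ⟨t * g, htn, fun p p' hp => ?_⟩)⟩
    · rw [MonoidHom.pow_apply, MonoidHom.mul_apply, mul_pow, MonoidHom.comp_apply]
      show μ.1 _ ^ 2 * e _ ^ 2 = 1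
      rw [← MonoidHom.pow_apply, μ.2.1, ← MonoidHom.pow_apply, he2]
      simp
    · show μ.1 _ * e (q : T) = 1
      have h1 : μ.1 ⟨_, hconj q⟩ = lam ⟨((q : T) : G), hq⟩ := by
        have := DFunLike.congr_fun hn ⟨(t * g)⁻¹ * ((q : T) : G) * (t * g),
          by simpa using hM.conj_mem _ hq (t * g)⁻¹⟩
        refine this.symm.trans ?_
        show lam _ = _
        exact congrArg lam (Subtype.ext (by simp [mul_assoc]))
      rw [h1, show e (q : T) = lam ⟨((q : T) : G), hq⟩ from he ⟨_, hq⟩, ← pow_two,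
        ← MonoidHom.pow_apply]
      have hl : lam ^ 2 = 1 := MonoidHom.ext fun m => by
        rw [MonoidHom.pow_apply, ← he, ← MonoidHom.pow_apply, he2]; rfl
      rw [hl]; rfl
    · show μ.1 p = μ.1 ⟨_, hconj (ι p')⟩ * e (ι p' : T) * e (ι p' : T)
      have hpp : (⟨(t * g)⁻¹ * ((ι p' : T) : G) * (t * g), hconj (ι p')⟩ : P) = p :=
        Subtype.ext (by
          show (t * g)⁻¹ * (p' : G) * (t * g) = p
          rw [hp]; group)
      rw [hpp, mul_assoc, ← pow_two, ← MonoidHom.pow_apply, he2, MonoidHom.one_apply, mul_one]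

end Fibres

end Cfsg.Agent.RealOddCount
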