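import Cfsg.Agent.Lib.RealOddCount.OddStep
import Cfsg.Agent.Lib.RealOddCount.TwoStep
import Mathlib.GroupTheory.Solvable

/-!
# Counting real characters of odd degree of a solvable group
-/

set_option autoImplicit false
set_option linter.all false

open scoped ComplexConjugate

namespace Cfsg.Agent.RealOddCount

open Cfsg.Agent

universe u

/-- The statement being proved by induction. -/
def Good (G : Type u) [Group G] [Finite G] (P : Subgroup G) : Prop :=
  Nat.card (RO (⊥ : Subgroup G)) = Nat.card (Orb P (⊥ : Subgroup G)) ∧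
    (AR (⊥ : Subgroup G) ↔ Cond P (⊥ : Subgroup G))

theorem exists_abelian_normal {G : Type u} [Group G] [Group.IsSolvable G] [Nontrivial G] :
    ∃ A : Subgroup G, A.Normal ∧ A ≠ ⊥ ∧ ∀ a b : A, a * b = b * a := by
  classical
  obtain ⟨n, hn⟩ : ∃ n, derivedSeries G n = ⊥ := Group.IsSolvable.solvable
  have hex : ∃ n, derivedSeries G n = ⊥ := ⟨n, hn⟩
  have h0 : Nat.find hex ≠ 0 := fun h => by
    have := Nat.find_spec hex
    rw [h, derivedSeries_zero] at this
    exact top_ne_bot this
  obtain ⟨k, hk⟩ := Nat.exists_eq_succ_of_ne_zero h0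
  refine ⟨derivedSeries G k, derivedSeries_normal G k, Nat.find_min hex (by omega), fun a b => ?_⟩
  have h1 : ⁅derivedSeries G k, derivedSeries G k⁆ = ⊥ := by
    have := Nat.find_spec hex
    rw [hk] at this
    rw [← derivedSeries_succ]
    exact this
  have h2 := Subgroup.commutator_mem_commutator a.2 b.2
  rw [h1, Subgroup.mem_bot, commutatorElement_eq_one_iff_mul_comm] at h2
  exact Subtype.ext h2

theorem exists_good_normal {G : Type u} [Group G] [Finite G] [Group.IsSolvable G] [Nontrivial G] :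
    ∃ M : Subgroup G, M.Normal ∧ M ≠ ⊥ ∧ (∀ a b : M, a * b = b * a) ∧
      (Odd (Nat.card M) ∨ ∀ m : M, m ^ 2 = 1) := by
  obtain ⟨A, hA, hne, hc⟩ := exists_abelian_normal (G := G)
  let B : Subgroup G :=
    { carrier := {x | x ∈ A ∧ x ^ 2 = 1}
      one_mem' := ⟨A.one_mem, one_pow 2⟩
      mul_mem' := fun {x y} hx hy => ⟨A.mul_mem hx.1 hy.1, by
        have hcomm : Commute x y := congrArg Subtype.val (hc ⟨x, hx.1⟩ ⟨y, hy.1⟩)
        rw [hcomm.mul_pow, hx.2, hy.2, one_mul]⟩
      inv_mem' := fun {x} hx => ⟨A.inv_mem hx.1, by rw [inv_pow, hx.2, inv_one]⟩ }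
  by_cases hB : B = ⊥
  · refine ⟨A, hA, hne, hc, Or.inl ?_⟩
    rw [← Nat.not_even_iff_odd, even_iff_two_dvd]
    intro h
    haveI : Fact (Nat.Prime 2) := ⟨Nat.prime_two⟩
    obtain ⟨a, ha⟩ := exists_prime_orderOf_dvd_card' (G := A) 2 h
    have h1 : (a : G) ∈ B := ⟨a.2, congrArg Subtype.val (orderOf_dvd_iff_pow_eq_one.mp ha.dvd)⟩
    rw [hB, Subgroup.mem_bot] at h1
    rw [show a = 1 from Subtype.ext h1, orderOf_one] at ha
    exact absurd ha (by norm_num)
  · refine ⟨B, ⟨fun x hx g => ⟨hA.conj_mem x hx.1 g, by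
      rw [conj_pow, hx.2, mul_one, mul_inv_cancel]⟩⟩, hB, fun a b => Subtype.ext
        (show (a : G) * b = b * a from (congrArg Subtype.val (hc ⟨a, a.2.1⟩ ⟨b, b.2.1⟩) : _)), Or.inr fun m => Subtype.ext m.2.2⟩

section Two

variable {G : Type u} [Group G] [Fintype G] (M : Subgroup G) [hM : M.Normal] [Fintype M]
  (hc : ∀ a b : M, a * b = b * a) (h2 : ∀ m : M, m ^ 2 = 1) {P : Subgroup G} (hP : IsTwoHall P)
  (hMP : M ≤ P)
  (ih : ∀ T : Subgroup G, P ≤ T → M ≤ T → Good (T ⧸ M.subgroupOf T)
    ((P.subgroupOf T).map (QuotientGroup.mk' (M.subgroupOf T))))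

include hc h2 hP hMP ih in
theorem card_eq_two :
    Nat.card (RO (⊥ : Subgroup G)) = Nat.card (Orb P (⊥ : Subgroup G)) := by
  classical
  haveI := CT.irr_finite G
  haveI : Finite (P →* ℂˣ) := inferInstance
  haveI : Finite (M →* ℂˣ) := inferInstance
  haveI : Fintype (Quotient (linSetoid M)) := Fintype.ofFinite _
  rw [← Nat.card_congr (Equiv.sigmaFiberEquiv (classA M hc (G := G))),
    ← Nat.card_congr (Equiv.sigmaFiberEquiv (classB M hMP)), Nat.card_sigma, Nat.card_sigma]
  refine Finset.sum_congr rfl fun i _ => ?_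
  induction i using Quotient.inductionOn with | _ a =>
  by_cases hex : ∃ μ : TwoLin P (⊥ : Subgroup G), Quotient.mk (linSetoid M) (resM M hMP μ.1) = Quotient.mk _ a
  · obtain ⟨μ, hμ⟩ := hex
    rw [← hμ]
    let lam := resM M hMP μ.1
    let T := CT.inertia M (fn M lam)
    haveI : Fintype T := Fintype.ofFinite _
    have hMT : M ≤ T := CT.le_inertia M (CT.isClassFunction_of_isIrr (CT.isIrrCharacter_lin lam))
    have hPT : P ≤ T := le_inertia_resM M hMP μ.1
    let PT : Subgroup T := P.subgroupOf T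
    haveI : Fintype PT := Fintype.ofFinite _
    let ι : PT →* P := (Subgroup.subgroupOfEquivOfLe hPT).toMonoidHom
    obtain ⟨e, he2, he⟩ := exists_real_ext M lam T rfl hMT PT (hP.subgroupOf hPT).oddIndex
      (fun m => hMP m.2) (μ.1.comp ι) (MonoidHom.ext fun x => by
        rw [MonoidHom.pow_apply, MonoidHom.comp_apply, ← MonoidHom.pow_apply, μ.2.1]; rfl)
      (fun m => rfl)
    rw [card_fibreA M hc h2 hP lam T rfl hMT hPT e he2 he,
      card_fibreB M hP hMP lam T rfl hMT hPT e he2 he, card_RO_quotient,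
      card_orb_quotient (hP.subgroupOf hPT), (ih T hPT hMT).1]
  · rw [Nat.card_eq_zero.mpr (Or.inl ?_), Nat.card_eq_zero.mpr (Or.inl ?_)]
    · refine ⟨fun ⟨o, ho⟩ => ?_⟩
      induction o using Quotient.inductionOn with | _ μ =>
      exact hex ⟨μ, ho⟩
    · refine ⟨fun ⟨χ, hχ⟩ => hex ?_⟩
      obtain ⟨lam, hov, hPT⟩ := exists_over_fixed M hc hP.pgroup χ.1.2 χ.2.1.2
      have hlam := lin_exp_two M h2 lam
      let T := CT.inertia M (fn M lam)
      haveI : Fintype T := Fintype.ofFinite _
      have hMT : M ≤ T := hMP.trans hPT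
      obtain ⟨ψ, hind, hψo, hψov⟩ :=
        exists_odd_correspondent M lam T rfl hMT χ.1.2 χ.2.1.2 hov
      have hψr := real_correspondent M lam T rfl hMT hlam ψ.2 hψov (by rw [hind]; exact χ.2.1.1)
      obtain ⟨e, he, he2⟩ := exists_det_ext M lam T rfl hMT ψ.2 hψov
      refine ⟨⟨e.comp (Subgroup.inclusion hPT), MonoidHom.ext fun p => ?_, fun p hp => ?_⟩, ?_⟩
      · rw [MonoidHom.pow_apply, MonoidHom.comp_apply, ← MonoidHom.pow_apply, he2 hψr]; rfl
      · rw [show p = 1 from Subtype.ext (Subgroup.mem_bot.mp hp), map_one]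
      · rw [← hχ, classA_eq M hc χ hov]
        refine congrArg (Quotient.mk _) (MonoidHom.ext fun m => ?_)
        show e ⟨m, _⟩ = lam m
        rw [he m]
        obtain ⟨k, hk⟩ := hψo
        rw [hk, pow_succ, pow_mul, ← MonoidHom.pow_apply lam 2, hlam, MonoidHom.one_apply, one_pow,
          one_mul]

include hc h2 hP hMP ih in
theorem AR_of_cond_two (hC : Cond P (⊥ : Subgroup G)) : AR (⊥ : Subgroup G) := by
  classical
  intro χ hodd _
  obtain ⟨lam, hov, hPT⟩ := exists_over_fixed M hc hP.pgroup χ.2 hodd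
  have hlam := lin_exp_two M h2 lam
  let T := CT.inertia M (fn M lam)
  haveI : Fintype T := Fintype.ofFinite _
  have hMT : M ≤ T := hMP.trans hPT
  obtain ⟨ψ, hind, hψo, hψov⟩ := exists_odd_correspondent M lam T rfl hMT χ.2 hodd hov
  obtain ⟨d, hd, -⟩ := exists_det_ext M lam T rfl hMT ψ.2 hψov
  let PT : Subgroup T := P.subgroupOf T
  haveI : Fintype PT := Fintype.ofFinite _
  have hμ2 : (d.comp PT.subtype) ^ 2 = 1 := by
    have h := hC.1 (d.comp (Subgroup.inclusion hPT)) fun p hp => by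
      rw [show p = 1 from Subtype.ext (Subgroup.mem_bot.mp hp), map_one]
    refine MonoidHom.ext fun x => ?_
    have h' := DFunLike.congr_fun h ⟨((x : T) : G), x.2⟩
    rw [MonoidHom.pow_apply, MonoidHom.one_apply] at h'
    rw [MonoidHom.pow_apply, MonoidHom.one_apply]
    exact h'
  obtain ⟨e, he2, he⟩ := exists_real_ext M lam T rfl hMT PT (hP.subgroupOf hPT).oddIndex
    (fun m => hMP m.2) (d.comp PT.subtype) hμ2 (fun m => by
      show d ⟨m, _⟩ = lam m
      rw [hd m]
      obtain ⟨k, hk⟩ := hψo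
      rw [hk, pow_succ, pow_mul, ← MonoidHom.pow_apply lam 2, hlam, MonoidHom.one_apply, one_pow,
        one_mul])
  have hCT : Cond (P.subgroupOf T) (M.subgroupOf T) := by
    refine ⟨fun μ hμ => ?_, fun n hn => ?_⟩
    · have h := hC.1 (μ.comp (Subgroup.subgroupOfEquivOfLe hPT).symm.toMonoidHom) fun p hp => by
        rw [show p = 1 from Subtype.ext (Subgroup.mem_bot.mp hp), map_one]
      refine MonoidHom.ext fun x => ?_
      have h' := DFunLike.congr_fun h ⟨((x : T) : G), x.2⟩
      rw [MonoidHom.pow_apply, MonoidHom.one_apply] at h'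
      rw [MonoidHom.pow_apply, MonoidHom.one_apply]
      exact h'
    · refine Subgroup.mem_sup_left ?_
      show (n : G) ∈ P
      have := hC.2 (n : G) ?_
      · rwa [sup_bot_eq] at this
      rw [Subgroup.mem_normalizer_iff]
      intro y
      rw [Subgroup.mem_normalizer_iff] at hn
      refine ⟨fun hy => (hn ⟨y, hPT hy⟩).mp hy, fun hy => ?_⟩
      have h' : y ∈ T := by
        have := T.mul_mem (T.mul_mem (T.inv_mem n.2) (hPT hy)) n.2
        simpa [mul_assoc] using this
      exact (hn ⟨y, h'⟩).mpr hy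
  have hAR : AR (M.subgroupOf T) :=
    (AR_quotient _).mpr ((ih T hPT hMT).2.mpr ((cond_quotient (hP.subgroupOf hPT) _).mp hCT))
  have hr := hAR (twist T e ψ) (by rw [deg_twist]; exact hψo)
    (trivial_twist M lam T rfl hMT e he hlam ψ hψov)
  have hψr : IsReal (ψ : T → ℂ) := by
    rw [← twist_twist T e he2 ψ]
    exact isReal_mul (isReal_lin he2) hr
  intro g
  rw [← hind, conj_indFun]
  exact congrFun (congrArg (Cfsg.indFun T) (funext hψr)) g

include hc h2 hP hMP in
theorem cond_of_AR_two (h : AR (⊥ : Subgroup G)) (hC : Cond P M) : Cond P (⊥ : Subgroup G) := by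
  classical
  refine ⟨fun μ _ => ?_, fun n hn => ?_⟩
  · let lam := resM M hMP μ
    have hlam := lin_exp_two M h2 lam
    let T := CT.inertia M (fn M lam)
    haveI : Fintype T := Fintype.ofFinite _
    have hPT : P ≤ T := le_inertia_resM M hMP μ
    have hMT : M ≤ T := hMP.trans hPT
    let PT : Subgroup T := P.subgroupOf T
    haveI : Fintype PT := Fintype.ofFinite _
    obtain ⟨e, he⟩ := exists_odd_ext M lam T rfl hMT PT (hP.subgroupOf hPT).oddIndex
      (fun m => hMP m.2) (μ.comp (Subgroup.subgroupOfEquivOfLe hPT).toMonoidHom) hlam (fun m => rfl)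
    have hlin := CT.isIrrCharacter_lin e
    have hov : OverT M lam T hMT (fun t => (e t : ℂ)) :=
      overT_of_apply M lam T hMT hlin fun m => by rw [he, map_one, Units.val_one, mul_one]
    have hirr := CT.isIrr_indFun_of_over M (CT.isIrrCharacter_lin lam) T rfl hMT hlin hov
    have hr := h ⟨_, hirr⟩ (by
      show Odd (CT.deg (Cfsg.indFun T fun t => (e t : ℂ)))
      rw [deg_indFun_lin T (CT.isCharacter_lin e)]
      refine (hP.oddIndex.of_dvd_nat (Subgroup.index_dvd_of_le hPT)).mul ?_
      rw [show CT.deg (fun t : T => (e t : ℂ)) = 1 by simp [CT.deg]]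
      exact odd_one) (fun k hk => by rw [Subgroup.mem_bot.mp hk])
    have he2 := lin_sq_of_real (real_correspondent M lam T rfl hMT hlam hlin hov hr)
    have he2' : (e.comp (Subgroup.inclusion hPT)) ^ 2 = 1 := MonoidHom.ext fun p => by
      rw [MonoidHom.pow_apply, MonoidHom.comp_apply, ← MonoidHom.pow_apply, he2]; rfl
    have h1 := hC.1 (μ * e.comp (Subgroup.inclusion hPT)) fun p hp => by
      show μ p * e ⟨(p : G), _⟩ = 1
      rw [show e ⟨(p : G), hPT p.2⟩ = lam ⟨p, hp⟩ from he ⟨p, hp⟩,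
        show μ p = lam ⟨p, hp⟩ from rfl, ← pow_two, ← MonoidHom.pow_apply, hlam]
      rfl
    refine MonoidHom.ext fun p => ?_
    have h3 := DFunLike.congr_fun h1 p
    have h4 := DFunLike.congr_fun he2' p
    rw [MonoidHom.pow_apply, MonoidHom.one_apply] at h3 h4 ⊢
    rwa [MonoidHom.mul_apply, mul_pow, h4, mul_one] at h3
  · have := hC.2 n hn
    rw [sup_eq_left.mpr hMP] at this
    rwa [sup_bot_eq]

end Two

theorem good_of_card : ∀ (n : ℕ) (G : Type u) [Group G] [Finite G] [Group.IsSolvable G],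
    Nat.card G = n → ∀ P : Subgroup G, IsTwoHall P → Good G P := by
  intro n
  induction n using Nat.strong_induction_on with | _ n ih =>
  intro G _ _ _ hn P hP
  classical
  haveI : Fintype G := Fintype.ofFinite G
  rcases subsingleton_or_nontrivial G with hs | hnt
  · haveI : Subsingleton P := ⟨fun a b => Subtype.ext (Subsingleton.elim _ _)⟩
    refine ⟨?_, iff_of_true (fun χ _ _ g => ?_) ⟨fun μ _ => MonoidHom.ext fun p => ?_,
      fun m _ => ?_⟩⟩
    · have hone : ∀ χ : Cfsg.IrrCharacter G, (χ : G → ℂ) = fun _ => 1 := fun χ => by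
        funext g
        rw [Subsingleton.elim g 1, CT.irr_degree_one_of_comm (fun a b => Subsingleton.elim _ _) χ.2]
      haveI : Subsingleton (RO (⊥ : Subgroup G)) :=
        ⟨fun a b => Subtype.ext (Subtype.ext ((hone a.1).trans (hone b.1).symm))⟩
      haveI : Nonempty (RO (⊥ : Subgroup G)) :=
        ⟨⟨⟨_, CT.isIrrCharacter_one⟩, ⟨fun _ => map_one _, by simp [CT.deg]⟩, fun _ _ => rfl⟩⟩
      haveI : Subsingleton (TwoLin P (⊥ : Subgroup G)) := ⟨fun a b => Subtype.ext
        (MonoidHom.ext fun p => by rw [Subsingleton.elim p 1, map_one, map_one])⟩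
      haveI : Nonempty (Orb P (⊥ : Subgroup G)) :=
        ⟨Quotient.mk _ ⟨1, MonoidHom.ext fun _ => by rw [MonoidHom.pow_apply, MonoidHom.one_apply, one_pow], fun _ _ => rfl⟩⟩
      rw [Nat.card_of_subsingleton (Classical.arbitrary _),
        Nat.card_of_subsingleton (Classical.arbitrary _)]
    · rw [Subsingleton.elim g 1, CT.deg_eq (CT.isCharacter_of_isIrr χ.2), map_natCast]
    · rw [Subsingleton.elim p 1, map_one, map_one]
    · rw [Subsingleton.elim m 1]
      exact one_mem _
  obtain ⟨M, hM, hMne, hc, hM2⟩ := exists_good_normal (G := G)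
  haveI : Fintype M := Fintype.ofFinite M
  have hMcard : 1 < Nat.card M := (M.one_lt_card_iff_ne_bot).mpr hMne
  have hquot : Good (G ⧸ M) (P.map (QuotientGroup.mk' M)) := by
    refine ih _ ?_ (G ⧸ M) rfl _ (hP.map _ (QuotientGroup.mk'_surjective M))
    rw [← hn, Subgroup.card_eq_card_quotient_mul_card_subgroup M]
    exact lt_mul_right Nat.card_pos hMcard
  have hCM : AR M ↔ Cond P M :=
    (AR_quotient M).trans (hquot.2.trans (cond_quotient hP M).symm)
  have hAR : AR (⊥ : Subgroup G) → AR M := fun h χ ho _ =>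
    h χ ho fun k hk => by rw [Subgroup.mem_bot.mp hk]
  rcases hM2 with hodd | h2
  · refine ⟨?_, fun h => cond_of_AR M hc hP hodd h (hCM.mp (hAR h)),
      fun h => AR_of_cond M hc hP hodd h (hCM.mpr ?_)⟩
    · rw [card_RO_bot_eq M hc hodd, card_orb_bot_eq M hP hodd, card_RO_quotient,
        card_orb_quotient hP, hquot.1]
    · refine ⟨fun μ _ => h.1 μ fun p hp => by
        rw [show p = 1 from Subtype.ext (Subgroup.mem_bot.mp hp), map_one], fun m hm => ?_⟩
      have := h.2 m hm
      rw [sup_bot_eq] at this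
      exact Subgroup.mem_sup_left this
  · have hMpg : IsPGroup 2 M := fun m => ⟨1, by rw [pow_one, h2]⟩
    have hMP : M ≤ P := by
      obtain ⟨g, hg⟩ := exists_conj_le hMpg hP.oddIndex
      intro x hx
      have := hg (g⁻¹ * x * g) (by simpa using hM.conj_mem x hx g⁻¹)
      simpa [mul_assoc] using this
    have ihT : ∀ T : Subgroup G, P ≤ T → M ≤ T → Good (T ⧸ M.subgroupOf T)
        ((P.subgroupOf T).map (QuotientGroup.mk' (M.subgroupOf T))) := by
      intro T hPT hMT
      refine ih _ ?_ (T ⧸ M.subgroupOf T) rfl _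
        ((hP.subgroupOf hPT).map _ (QuotientGroup.mk'_surjective _))
      have h1 : Nat.card (M.subgroupOf T) = Nat.card M :=
        Nat.card_congr (Subgroup.subgroupOfEquivOfLe hMT).toEquiv
      have h3 := Subgroup.card_eq_card_quotient_mul_card_subgroup (M.subgroupOf T)
      rw [h1] at h3
      calc Nat.card (T ⧸ M.subgroupOf T) < Nat.card (T ⧸ M.subgroupOf T) * Nat.card M :=
            lt_mul_right Nat.card_pos hMcard
        _ = Nat.card T := h3.symm
        _ ≤ Nat.card G := T.card_le_card_group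
        _ = n := hn
    exact ⟨card_eq_two M hc h2 hP hMP ihT,
      fun h => cond_of_AR_two M hc h2 hP hMP h (hCM.mp (hAR h)),
      AR_of_cond_two M hc h2 hP hMP ihT⟩

theorem good {G : Type u} [Group G] [Finite G] [Group.IsSolvable G] (P : Subgroup G)
    (hP : IsTwoHall P) : Good G P :=
  good_of_card _ G rfl P hP

end Cfsg.Agent.RealOddCount
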