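import Cfsg.Agent.Lib.RealOddCount.Ext
import Mathlib.GroupTheory.FiniteAbelian.Duality
import Mathlib.Analysis.Complex.Polynomial.Basic
import Mathlib.RingTheory.RootsOfUnity.AlgebraicallyClosed

/-!
# Reduction modulo an abelian normal subgroup of odd order
-/

set_option autoImplicit false
set_option linter.all false

open scoped ComplexConjugate

namespace Cfsg.Agent.RealOddCount

open Cfsg.Agent

universe u

variable {G : Type u} [Group G] [Fintype G] (M : Subgroup G) [hM : M.Normal]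
  (hc : ∀ a b : M, a * b = b * a) {P : Subgroup G} (hP : IsTwoHall P) (hodd : Odd (Nat.card M))

omit hM in
include hP hodd in
theorem eq_one_of_mem_inf {x : G} (hxP : x ∈ P) (hxM : x ∈ M) : x = 1 := by
  haveI : Fact (Nat.Prime 2) := ⟨Nat.prime_two⟩
  obtain ⟨k, hk⟩ := hP.pgroup ⟨x, hxP⟩
  have h1 : x ^ 2 ^ k = 1 := congrArg Subtype.val hk
  have h2 : x ^ Nat.card M = 1 := congrArg Subtype.val (pow_card_eq_one' (x := (⟨x, hxM⟩ : M)))
  have h3 := pow_gcd_eq_one.mpr ⟨h1, h2⟩
  rwa [Nat.Coprime.pow_left k (Nat.coprime_two_left.mpr hodd), pow_one] at h3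

omit hM in
include hP hodd in
theorem card_orb_bot_eq : Nat.card (Orb P (⊥ : Subgroup G)) = Nat.card (Orb P M) := by
  refine Nat.card_congr (Quotient.congr (Equiv.subtypeEquivRight fun μ =>
    and_congr_right fun _ => ⟨fun h p hp => h p ?_, fun h p hp => h p ?_⟩) fun μ μ' => Iff.rfl)
  · rw [Subgroup.mem_bot, eq_one_of_mem_inf M hP hodd p.2 hp]
  · rw [Subgroup.mem_bot.mp hp]
    exact M.one_mem

include hc hodd in
theorem card_RO_bot_eq : Nat.card (RO (⊥ : Subgroup G)) = Nat.card (RO M) := by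
  haveI : Fintype M := Fintype.ofFinite _
  refine Nat.card_congr (Equiv.subtypeEquivRight fun χ => ?_)
  exact ⟨fun h => ⟨h.1, real_trivial_of_odd M hc hodd χ.2 h.1.1 h.1.2⟩,
    fun h => ⟨h.1, fun k hk => by rw [Subgroup.mem_bot.mp hk]⟩⟩

include hc in
/-- Averaging over a subgroup. -/
theorem exists_avg (Q : Subgroup G) : ∃ f : M →* M,
    (∀ m : M, ∀ y ∈ Q, f (MulAut.conjNormal y m) = f m) ∧
    (∀ m : M, ∀ y ∈ Q, MulAut.conjNormal y (f m) = f m) ∧
    (∀ θ : M →* ℂˣ, Q ≤ CT.inertia M (fn M θ) → ∀ m : M, θ (f m) = θ m ^ Nat.card Q) ∧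
    (∀ m : M, (∀ y ∈ Q, MulAut.conjNormal y m = m) → f m = m ^ Nat.card Q) := by
  letI : CommGroup M := { (inferInstance : Group M) with mul_comm := hc }
  haveI : Fintype Q := Fintype.ofFinite _
  refine ⟨MonoidHom.mk' (fun m => ∏ x : Q, MulAut.conjNormal (x : G) m) (fun a b => by
    simp only [map_mul, Finset.prod_mul_distrib]), fun m y hy => ?_, fun m y hy => ?_,
    fun θ hθ m => ?_, fun m hm => ?_⟩
  · refine Fintype.prod_equiv (Equiv.mulRight ⟨y, hy⟩) _ _ fun x => Subtype.ext ?_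
    simp [mul_assoc]
  · show MulAut.conjNormal y (∏ x : Q, _) = _
    rw [map_prod]
    refine Fintype.prod_equiv (Equiv.mulLeft ⟨y, hy⟩) _ _ fun x => Subtype.ext ?_
    simp [mul_assoc]
  · show θ (∏ x : Q, _) = _
    have hterm : ∀ x : Q, θ (MulAut.conjNormal (x : G) m) = θ m := fun x => by
      refine Eq.trans (congrArg θ (Subtype.ext ?_))
        (DFunLike.congr_fun ((mem_inertia_lin M).mp (hθ x.2)) m)
      rw [MulAut.conjNormal_apply]
    rw [map_prod, Finset.prod_congr rfl (g := fun _ => θ m) fun x _ => hterm x, Finset.prod_const,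
      Finset.card_univ, ← Nat.card_eq_fintype_card]
  · show ∏ x : Q, _ = _
    rw [Finset.prod_congr rfl (g := fun _ => m) fun (x : Q) _ => hm x x.2, Finset.prod_const,
      Finset.card_univ, ← Nat.card_eq_fintype_card]

include hP hodd in
theorem eq_one_of_pow_card {A : Type u} [Group A] {a : A} (h1 : a ^ Nat.card P = 1)
    (h2 : a ^ Nat.card M = 1) : a = 1 := by
  haveI : Fact (Nat.Prime 2) := ⟨Nat.prime_two⟩
  obtain ⟨k, hk⟩ := IsPGroup.iff_card.mp hP.pgroup
  rw [hk] at h1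
  have h3 := pow_gcd_eq_one.mpr ⟨h1, h2⟩
  rwa [Nat.Coprime.pow_left k (Nat.coprime_two_left.mpr hodd), pow_one] at h3

include hP hodd in
theorem unit_eq_one_of_pow_card {a : ℂˣ} (h1 : a ^ Nat.card P = 1) (h2 : a ^ Nat.card M = 1) :
    a = 1 := by
  haveI : Fact (Nat.Prime 2) := ⟨Nat.prime_two⟩
  obtain ⟨k, hk⟩ := IsPGroup.iff_card.mp hP.pgroup
  rw [hk] at h1
  have h3 := pow_gcd_eq_one.mpr ⟨h1, h2⟩
  rwa [Nat.Coprime.pow_left k (Nat.coprime_two_left.mpr hodd), pow_one] at h3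

include hP hodd in
/-- An invariant linear character lies under some character of odd degree. -/
theorem exists_odd_over [Fintype M] (θ : M →* ℂˣ) (hθ : P ≤ CT.inertia M (fn M θ)) :
    ∃ χ : Cfsg.IrrCharacter G, Odd (CT.deg (χ : G → ℂ)) ∧ Over M (χ : G → ℂ) θ := by
  classical
  let S : Subgroup G := P ⊔ M
  haveI : Fintype S := Fintype.ofFinite _
  have hdec : ∀ x : S, ∃ p ∈ P, ∃ m : M, (x : G) = p * m := fun x => by
    have hx : (x : G) ∈ ((P ⊔ M : Subgroup G) : Set G) := x.2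
    rw [Subgroup.mul_normal] at hx
    obtain ⟨p, hp, m, hm, h⟩ := hx
    exact ⟨p, hp, ⟨m, hm⟩, h.symm⟩
  choose π hπ μf hμf using hdec
  have huniq : ∀ (x : S) (p : G) (m : M), p ∈ P → (x : G) = p * m → μf x = m := by
    intro x p m hp h
    rw [hμf] at h
    have h2 : p⁻¹ * π x = (m : G) * (μf x : G)⁻¹ := by
      calc p⁻¹ * π x = p⁻¹ * (π x * μf x) * (μf x : G)⁻¹ := by group
        _ = _ := by rw [h]; group
    have h1 := eq_one_of_mem_inf M hP hodd (mul_mem (inv_mem hp) (hπ x))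
      (h2 ▸ mul_mem m.2 (inv_mem (μf x).2))
    rw [h2, mul_inv_eq_one] at h1
    exact Subtype.ext h1.symm
  let μ : S →* ℂˣ := MonoidHom.mk' (fun x => θ (μf x)) (fun a b => by
    have hb : (π b)⁻¹ * (μf a : G) * π b ∈ M := by
      simpa using hM.conj_mem (μf a : G) (μf a).2 (π b)⁻¹
    rw [huniq (a * b) (π a * π b) (⟨_, hb⟩ * μf b) (mul_mem (hπ a) (hπ b)) (by
      rw [Subgroup.coe_mul, Subgroup.coe_mul, hμf a, hμf b]; group), map_mul]
    congr 1
    have h := DFunLike.congr_fun ((mem_inertia_lin M).mp (hθ (inv_mem (hπ b)))) (μf a)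
    rw [← h]
    exact congrArg θ (Subtype.ext (by simp)))
  have hμM : ∀ x : S, ∀ hx : (x : G) ∈ M, μ x = θ ⟨x, hx⟩ := fun x hx =>
    congrArg θ (huniq x 1 ⟨x, hx⟩ P.one_mem (one_mul _).symm)
  have hSodd : Odd S.index := hP.oddIndex.of_dvd_nat (Subgroup.index_dvd_of_le le_sup_left)
  have hf := CT.isCharacter_indFun S (CT.isCharacter_lin μ)
  have hdeg : CT.deg (Cfsg.indFun S fun x => (μ x : ℂ)) = S.index := by
    simp [CT.deg, CT.indFun_one_eval]
  haveI := CT.irr_finite G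
  haveI := Fintype.ofFinite (Cfsg.IrrCharacter G)
  have hsum : CT.deg (Cfsg.indFun S fun x => (μ x : ℂ)) = ∑ χ : Cfsg.IrrCharacter G,
      CT.mult (Cfsg.indFun S fun x => (μ x : ℂ)) (χ : G → ℂ) * CT.deg (χ : G → ℂ) := by
    apply Nat.cast_injective (R := ℂ)
    rw [← CT.deg_eq hf]
    conv_lhs => rw [CT.character_eq_sum hf]
    rw [Finset.sum_apply]
    push_cast
    refine Finset.sum_congr (Finset.ext fun _ => by simp) fun χ _ => ?_
    rw [Pi.smul_apply, smul_eq_mul, CT.deg_eq (CT.isCharacter_of_isIrr χ.2)]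
  obtain ⟨χ, hχo⟩ : ∃ χ : Cfsg.IrrCharacter G,
      Odd (CT.mult (Cfsg.indFun S fun x => (μ x : ℂ)) (χ : G → ℂ) * CT.deg (χ : G → ℂ)) := by
    by_contra hno
    push Not at hno
    rw [← hdeg, hsum] at hSodd
    exact Nat.not_odd_iff_even.mpr
      (Finset.even_sum _ fun χ _ => Nat.not_odd_iff_even.mp (hno χ)) hSodd
  obtain ⟨h1, h2⟩ := Nat.odd_mul.mp hχo
  refine ⟨χ, h2, ?_⟩
  have hχ := CT.isCharacter_of_isIrr χ.2
  have h3 : Cfsg.classInner (fun x : S => (χ : G → ℂ) x) (fun x => (μ x : ℂ)) ≠ 0 := by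
    rw [CT.classInner_comm_of_char (CT.isCharacter_restrict S hχ) (CT.isCharacter_lin μ),
      ← CT.frobenius_reciprocity S _ (CT.isClassFunction_of_isCharacter hχ),
      CT.mult_spec hf hχ, Nat.cast_ne_zero]
    exact fun h0 => by rw [h0] at h1; exact Nat.not_odd_zero h1
  let MS : Subgroup S := M.subgroupOf S
  haveI : Fintype MS := Fintype.ofFinite _
  let e : MS ≃* M := Subgroup.subgroupOfEquivOfLe (le_sup_right : M ≤ S)
  have hlin : Cfsg.IsIrrCharacter MS (fun x : MS => (θ (e x) : ℂ)) :=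
    CT.isIrrCharacter_lin (θ.comp e.toMonoidHom)
  have h4 := CT.classInner_eq_of_res_ne_zero (CT.isCharacter_restrict S hχ)
    (CT.isIrrCharacter_lin μ) (CT.isCharacter_of_isIrr hlin) h3 (by
      have heq : (fun x : MS => (μ (x : S) : ℂ)) = fun x : MS => (θ (e x) : ℂ) :=
        funext fun x => congrArg Units.val (hμM x x.2)
      rw [heq, CT.irr_inner_self hlin]
      exact one_ne_zero)
  show Cfsg.classInner _ _ ≠ 0
  rw [← Glauberman.classInner_comp_equiv e]
  exact h4

include hc hP hodd in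
theorem cond_of_AR (h : AR (⊥ : Subgroup G)) (hC : Cond P M) : Cond P (⊥ : Subgroup G) := by
  classical
  haveI : Fintype M := Fintype.ofFinite _
  refine ⟨fun μ _ => hC.1 μ fun p hp => ?_, fun n hn => ?_⟩
  · rw [show p = 1 from Subtype.ext (eq_one_of_mem_inf M hP hodd p.2 hp), map_one]
  rw [sup_bot_eq]
  have hn' : n ∈ ((P ⊔ M : Subgroup G) : Set G) := hC.2 n hn
  rw [Subgroup.mul_normal] at hn'
  obtain ⟨p, hp, m, hm, rfl⟩ := hn'
  have hmN : m ∈ Subgroup.normalizer (P : Set G) := by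
    have := mul_mem (inv_mem (Subgroup.le_normalizer hp)) hn
    rwa [inv_mul_cancel_left] at this
  suffices m = 1 by show p * m ∈ P; rw [this, mul_one]; exact hp
  have hfix : ∀ y ∈ P, MulAut.conjNormal y (⟨m, hm⟩ : M) = ⟨m, hm⟩ := by
    intro y hy
    refine Subtype.ext ?_
    rw [MulAut.conjNormal_apply]
    have hP' : y * (m * y⁻¹ * m⁻¹) ∈ P :=
      mul_mem hy ((Subgroup.mem_normalizer_iff.mp hmN _).mp (inv_mem hy))
    have hM' : y * m * y⁻¹ * m⁻¹ ∈ M := mul_mem (hM.conj_mem m hm y) (inv_mem hm)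
    have := eq_one_of_mem_inf M hP hodd (by simpa [mul_assoc] using hP') hM'
    rwa [mul_inv_eq_one] at this
  by_contra hne
  have hne' : (⟨m, hm⟩ : M) ≠ 1 := fun e => hne (congrArg Subtype.val e)
  letI : CommGroup M := { (inferInstance : Group M) with mul_comm := hc }
  obtain ⟨θ, hθ⟩ := CommGroup.exists_apply_ne_one_of_hasEnoughRootsOfUnity M ℂ hne'
  obtain ⟨f, hf1, -, -, hf4⟩ := exists_avg M hc P
  have hinv : P ≤ CT.inertia M (fn M (θ.comp f)) := fun y hy =>
    (mem_inertia_lin M).mpr (MonoidHom.ext fun x => congrArg θ (hf1 x y hy))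
  obtain ⟨χ, hχo, hχov⟩ := exists_odd_over M hP hodd (θ.comp f) hinv
  have hreal := h χ hχo fun k hk => by rw [Subgroup.mem_bot.mp hk]
  have htriv := real_trivial_of_odd M hc hodd χ.2 hreal hχo
  apply hθ
  have h1 : θ.comp f = 1 := by
    by_contra hne1
    refine hχov ?_
    rw [show (fun x : M => (χ : G → ℂ) x) = (χ : G → ℂ) 1 • fn M (1 : M →* ℂˣ) from
      funext fun x => by simp [fn, htriv x x.2], CT.classInner_smul_left,
      CT.irr_inner_of_ne (CT.isIrrCharacter_lin 1) (CT.isIrrCharacter_lin (θ.comp f))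
        (fun e => hne1 (lin_eq_of_coe e).symm), mul_zero]
  have h2 := DFunLike.congr_fun h1 (⟨m, hm⟩ : M)
  rw [MonoidHom.comp_apply, hf4 _ hfix, map_pow, MonoidHom.one_apply] at h2
  exact unit_eq_one_of_pow_card M hP hodd h2 (by rw [← map_pow, pow_card_eq_one', map_one])

include hc hP hodd in
theorem AR_of_cond (hC : Cond P (⊥ : Subgroup G)) (h : AR M) : AR (⊥ : Subgroup G) := by
  classical
  haveI : Fintype M := Fintype.ofFinite _
  intro χ hχo _
  obtain ⟨θ, hov, hinv⟩ := exists_over_fixed M hc hP.pgroup χ.2 hχo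
  obtain ⟨f, -, hf2, hf3, -⟩ := exists_avg M hc P
  have h1 : θ = 1 := by
    refine MonoidHom.ext fun m => ?_
    have hfm : f m = 1 := by
      have hn : ((f m : M) : G) ∈ Subgroup.normalizer (P : Set G) := by
        rw [Subgroup.mem_normalizer_iff]
        intro y
        have key : ∀ y ∈ P, (f m : G) * y * (f m : G)⁻¹ = y := fun y hy => by
          have := congrArg Subtype.val (hf2 m y hy)
          rw [MulAut.conjNormal_apply, mul_inv_eq_iff_eq_mul] at this
          rw [← this, mul_inv_cancel_right]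
        refine ⟨fun hy => (key y hy).symm ▸ hy, fun hy => ?_⟩
        have h' := key _ hy
        have e : (f m : G) * y * (f m : G)⁻¹ = y :=
          (MulAut.conj (f m : G)).injective h'
        exact e ▸ hy
      have := hC.2 _ hn
      rw [sup_bot_eq] at this
      exact Subtype.ext (eq_one_of_mem_inf M hP hodd this (f m).2)
    have h2 := hf3 θ hinv m
    rw [hfm, map_one] at h2
    exact unit_eq_one_of_pow_card M hP hodd h2.symm (by rw [← map_pow, pow_card_eq_one', map_one])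
  subst h1
  refine h χ hχo ?_
  have hres := CT.restrict_eq_smul_of_invariant M χ.2 (CT.isIrrCharacter_lin (1 : M →* ℂˣ)) hov
    (fun x => funext fun m => by simp [CT.conjFun])
  intro m hm
  have e1 := congrFun hres ⟨m, hm⟩
  have e2 := congrFun hres 1
  simp only [Pi.smul_apply, MonoidHom.one_apply, OneMemClass.coe_one] at e1 e2
  rw [e1, e2]

end Cfsg.Agent.RealOddCount
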