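import Cfsg.Agent.Lib.RealOddCount.Basic
import Mathlib.GroupTheory.Sylow
import Mathlib.GroupTheory.Abelianization.Defs

/-!
# Linear characters of a Sylow 2-subgroup up to its normalizer
-/

set_option autoImplicit false
set_option linter.all false

namespace Cfsg.Agent.RealOddCount

open Cfsg.Agent

universe u

variable {G : Type u} [Group G] [Finite G]

/-- A 2-subgroup of odd index. -/
structure IsTwoHall (P : Subgroup G) : Prop where
  pgroup : IsPGroup 2 P
  oddIndex : Odd P.index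

theorem exists_conj_le {P : Subgroup G} (hP : IsPGroup 2 P) {T : Subgroup G} (hT : Odd T.index) :
    ∃ g : G, ∀ x ∈ P, g * x * g⁻¹ ∈ T := by
  haveI : Fact (Nat.Prime 2) := ⟨Nat.prime_two⟩
  have hne : ¬ 2 ∣ Nat.card (G ⧸ T) := by
    rw [← Subgroup.index_eq_card, ← even_iff_two_dvd, Nat.not_even_iff_odd]
    exact hT
  obtain ⟨q, hq⟩ := hP.nonempty_fixed_point_of_prime_not_dvd_card (G ⧸ T) hne
  obtain ⟨a, rfl⟩ := QuotientGroup.mk_surjective q
  refine ⟨a⁻¹, fun x hx => ?_⟩
  have h : ((x * a : G) : G ⧸ T) = (a : G ⧸ T) := hq ⟨x, hx⟩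
  rw [QuotientGroup.eq, mul_inv_rev] at h
  have h' := inv_mem h
  simpa [mul_assoc] using h'

theorem IsTwoHall.subgroupOf {P : Subgroup G} (hP : IsTwoHall P) {T : Subgroup G} (hPT : P ≤ T) :
    IsTwoHall (P.subgroupOf T) :=
  ⟨hP.pgroup.comap_subtype,
    hP.oddIndex.of_dvd_nat (Subgroup.relIndex_dvd_index_of_le hPT)⟩

theorem IsTwoHall.map {P : Subgroup G} (hP : IsTwoHall P) {H : Type u} [Group H] (f : G →* H)
    (hf : Function.Surjective f) : IsTwoHall (P.map f) :=
  ⟨hP.pgroup.map f, hP.oddIndex.of_dvd_nat (Subgroup.index_map_dvd P hf)⟩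

/-- Two conjugates inside a subgroup differ by an element of it, up to the normalizer. -/
theorem exists_mul_mem_normalizer {P : Subgroup G} (hP : IsTwoHall P) {T : Subgroup G} (hPT : P ≤ T)
    {g : G} (hg : ∀ x ∈ P, g * x * g⁻¹ ∈ T) :
    ∃ t ∈ T, t * g ∈ Subgroup.normalizer (P : Set G) := by
  let P1 : Subgroup T := (P.map (MulAut.conj g).toMonoidHom).subgroupOf T
  obtain ⟨t, ht⟩ := exists_conj_le (P := P1) (hP.pgroup.map _).comap_subtype
    (hP.subgroupOf hPT).oddIndex
  refine ⟨t, t.2, ?_⟩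
  have hle : P.map (MulAut.conj ((t : G) * g)).toMonoidHom ≤ P := by
    rintro _ ⟨x, hx, rfl⟩
    have h := ht ⟨g * x * g⁻¹, hg x hx⟩ ⟨x, hx, rfl⟩
    show (t : G) * g * x * ((t : G) * g)⁻¹ ∈ P
    rw [Subgroup.mem_subgroupOf] at h
    simpa [mul_assoc] using h
  have heq : P.map (MulAut.conj ((t : G) * g)).toMonoidHom = P :=
    Subgroup.eq_of_le_of_card_ge hle
      (Subgroup.card_map_of_injective (MulAut.conj _).injective).ge
  rw [Subgroup.mem_normalizer_iff]
  intro x
  refine ⟨fun hx => heq.le ⟨x, hx, rfl⟩, fun hx => ?_⟩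
  obtain ⟨y, hy, hyx⟩ := heq.ge hx
  have : y = x := (MulAut.conj _).injective hyx
  exact this ▸ hy

/-- The normalizer of the image is the image of the normalizer. -/
theorem normalizer_map_mk {P : Subgroup G} (hP : IsTwoHall P) (K : Subgroup G) [K.Normal] (g : G)
    (hg : QuotientGroup.mk' K g ∈ Subgroup.normalizer ((P.map (QuotientGroup.mk' K) : Subgroup _) : Set (G ⧸ K))) :
    ∃ n ∈ Subgroup.normalizer (P : Set G), QuotientGroup.mk' K n = QuotientGroup.mk' K g := by
  have h : ∀ x ∈ P, g * x * g⁻¹ ∈ P ⊔ K := by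
    intro x hx
    have h1 := (Subgroup.mem_normalizer_iff.mp hg _).mp (Subgroup.mem_map_of_mem (QuotientGroup.mk' K) hx)
    rw [← map_inv, ← map_mul, ← map_mul, ← Subgroup.mem_comap, Subgroup.comap_map_eq,
      QuotientGroup.ker_mk'] at h1
    exact h1
  obtain ⟨t, ht, htn⟩ := exists_mul_mem_normalizer hP le_sup_left h
  rw [← SetLike.mem_coe, Subgroup.mul_normal] at ht
  obtain ⟨p, hp, k, hk, rfl⟩ := ht
  refine ⟨p⁻¹ * (p * k * g), mul_mem (inv_mem (Subgroup.le_normalizer hp)) htn, ?_⟩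
  have hk1 : QuotientGroup.mk' K k = 1 := (QuotientGroup.eq_one_iff k).mpr hk
  rw [map_mul, map_inv, map_mul, map_mul, hk1, mul_one, inv_mul_cancel_left]

/-- Linear characters of order at most two, trivial on `K`. -/
abbrev TwoLin (P K : Subgroup G) : Type u :=
  {μ : P →* ℂˣ // μ ^ 2 = 1 ∧ ∀ p : P, (p : G) ∈ K → μ p = 1}

/-- Conjugacy under the normalizer. -/
def Rel (P : Subgroup G) (μ μ' : P →* ℂˣ) : Prop :=
  ∃ n ∈ Subgroup.normalizer (P : Set G), ∀ p p' : P, (p' : G) = n * p * n⁻¹ → μ' p = μ p'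

theorem rel_refl (P : Subgroup G) (μ : P →* ℂˣ) : Rel P μ μ :=
  ⟨1, one_mem _, fun p p' h => congrArg μ (Subtype.ext (by simpa using h.symm))⟩

theorem rel_symm {P : Subgroup G} {μ μ' : P →* ℂˣ} (h : Rel P μ μ') : Rel P μ' μ := by
  obtain ⟨n, hn, h⟩ := h
  refine ⟨n⁻¹, inv_mem hn, fun p p' hp => (h p' p ?_).symm⟩
  rw [hp]; group

theorem rel_trans {P : Subgroup G} {μ μ' μ'' : P →* ℂˣ} (h : Rel P μ μ') (h' : Rel P μ' μ'') :
    Rel P μ μ'' := by
  obtain ⟨n, hn, h⟩ := h
  obtain ⟨m, hm, h'⟩ := h'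
  refine ⟨n * m, mul_mem hn hm, fun p p' hp => ?_⟩
  have hq : m * (p : G) * m⁻¹ ∈ P := (Subgroup.mem_normalizer_iff.mp hm _).mp p.2
  rw [h' p ⟨_, hq⟩ rfl, h ⟨_, hq⟩ p' (by rw [hp]; group)]

instance twoLinSetoid (P K : Subgroup G) : Setoid (TwoLin P K) where
  r μ μ' := Rel P μ.1 μ'.1
  iseqv := ⟨fun μ => rel_refl P μ.1, rel_symm, rel_trans⟩

/-- The orbits. -/
abbrev Orb (P K : Subgroup G) : Type u := Quotient (twoLinSetoid P K)

/-- The homomorphism onto the image. -/
def toImage (P K : Subgroup G) [K.Normal] : P →* P.map (QuotientGroup.mk' K) :=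
  (QuotientGroup.mk' K).subgroupMap P

theorem toImage_surjective (P K : Subgroup G) [K.Normal] : Function.Surjective (toImage P K) :=
  MonoidHom.subgroupMap_surjective _ P

theorem toImage_coe (P K : Subgroup G) [K.Normal] (p : P) :
    ((toImage P K p : P.map (QuotientGroup.mk' K)) : G ⧸ K) = QuotientGroup.mk' K p := rfl

theorem toImage_eq_one (P K : Subgroup G) [K.Normal] (p : P) :
    toImage P K p = 1 ↔ (p : G) ∈ K :=
  ⟨fun h => (QuotientGroup.eq_one_iff (p : G)).mp (congrArg Subtype.val h),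
    fun h => Subtype.ext ((QuotientGroup.eq_one_iff (p : G)).mpr h)⟩

/-- Orbits trivial on `K` are orbits of the quotient. -/
theorem card_orb_quotient {P : Subgroup G} (hP : IsTwoHall P) (K : Subgroup G) [K.Normal] :
    Nat.card (Orb P K) = Nat.card (Orb (P.map (QuotientGroup.mk' K)) ⊥) := by
  classical
  let π := toImage P K
  have hπ := toImage_surjective P K
  have hker : ∀ μ : TwoLin P K, π.ker ≤ μ.1.ker := fun μ p hp =>
    μ.2.2 p ((toImage_eq_one P K p).mp hp)
  let e : TwoLin P K ≃ TwoLin (P.map (QuotientGroup.mk' K)) (⊥ : Subgroup (G ⧸ K)) :=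
    { toFun := fun μ => ⟨MonoidHom.liftOfSurjective π hπ ⟨μ.1, hker μ⟩, by
          refine MonoidHom.ext fun q => ?_
          obtain ⟨p, rfl⟩ := hπ q
          rw [MonoidHom.pow_apply, MonoidHom.liftOfRightInverse_comp_apply, MonoidHom.one_apply]
          exact (MonoidHom.pow_apply μ.1 2 p).symm.trans (by rw [μ.2.1]; rfl), fun q hq => by
          rw [show q = 1 from Subtype.ext (Subgroup.mem_bot.mp hq), map_one]⟩
      invFun := fun ν => ⟨ν.1.comp π, MonoidHom.ext fun p => by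
          rw [MonoidHom.pow_apply, MonoidHom.comp_apply, ← MonoidHom.pow_apply, ν.2.1]; rfl,
        fun p hp => by rw [MonoidHom.comp_apply, (toImage_eq_one P K p).mpr hp, map_one]⟩
      left_inv := fun μ => Subtype.ext (MonoidHom.ext fun p => by
        simp only [MonoidHom.comp_apply, MonoidHom.liftOfRightInverse_comp_apply])
      right_inv := fun ν => Subtype.ext (MonoidHom.ext fun q => by
        obtain ⟨p, rfl⟩ := hπ q
        exact MonoidHom.liftOfRightInverse_comp_apply _ _ _ _ _) }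
  have hev : ∀ (μ : TwoLin P K) (p : P), (e μ).1 (π p) = μ.1 p := fun μ p =>
    MonoidHom.liftOfRightInverse_comp_apply _ _ _ _ _
  refine Nat.card_congr (Quotient.congr e fun μ μ' => ?_)
  constructor
  · rintro ⟨n, hn, h⟩
    refine ⟨QuotientGroup.mk' K n, ?_, fun q q' hq => ?_⟩
    · exact Subgroup.le_normalizer_map _ ⟨n, hn, rfl⟩
    obtain ⟨p, rfl⟩ := hπ q
    have hnp : n * (p : G) * n⁻¹ ∈ P := (Subgroup.mem_normalizer_iff.mp hn _).mp p.2
    have hq' : q' = π ⟨_, hnp⟩ := Subtype.ext (by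
      rw [hq]
      show _ = QuotientGroup.mk' K (n * (p : G) * n⁻¹)
      rw [map_mul, map_mul, map_inv]
      rfl)
    rw [hq', hev, hev]
    exact h p ⟨_, hnp⟩ rfl
  · rintro ⟨q, hq, h⟩
    obtain ⟨g, rfl⟩ := QuotientGroup.mk'_surjective K q
    obtain ⟨n, hn, hng⟩ := normalizer_map_mk hP K g hq
    refine ⟨n, hn, fun p p' hp => ?_⟩
    rw [← hev μ', ← hev μ]
    refine h (π p) (π p') ?_
    rw [← hng]
    show QuotientGroup.mk' K (p' : G) = QuotientGroup.mk' K n * QuotientGroup.mk' K p * _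
    rw [hp, map_mul, map_mul, map_inv]

/-- The condition on the Sylow subgroup. -/
def Cond (P K : Subgroup G) : Prop :=
  (∀ μ : P →* ℂˣ, (∀ p : P, (p : G) ∈ K → μ p = 1) → μ ^ 2 = 1) ∧
    ∀ n ∈ Subgroup.normalizer (P : Set G), n ∈ P ⊔ K

theorem cond_quotient {P : Subgroup G} (hP : IsTwoHall P) (K : Subgroup G) [K.Normal] :
    Cond P K ↔ Cond (P.map (QuotientGroup.mk' K)) ⊥ := by
  have hπ := toImage_surjective P K
  constructor
  · rintro ⟨h1, h2⟩
    refine ⟨fun ν _ => ?_, fun q hq => ?_⟩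
    · have h := h1 (ν.comp (toImage P K)) fun p hp => by
        rw [MonoidHom.comp_apply, (toImage_eq_one P K p).mpr hp, map_one]
      refine MonoidHom.ext fun q => ?_
      obtain ⟨p, rfl⟩ := hπ q
      exact DFunLike.congr_fun h p
    · obtain ⟨g, rfl⟩ := QuotientGroup.mk'_surjective K q
      obtain ⟨n, hn, hng⟩ := normalizer_map_mk hP K g hq
      rw [← hng, sup_bot_eq]
      have := Subgroup.mem_map_of_mem (QuotientGroup.mk' K) (h2 n hn)
      rwa [Subgroup.map_sup, QuotientGroup.map_mk'_self, sup_bot_eq] at this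
  · rintro ⟨h1, h2⟩
    refine ⟨fun μ hμ => ?_, fun n hn => ?_⟩
    · have hk : (toImage P K).ker ≤ μ.ker := fun p hp => hμ p ((toImage_eq_one P K p).mp hp)
      have h := h1 (MonoidHom.liftOfSurjective _ hπ ⟨μ, hk⟩) fun q hq => by
        rw [show q = 1 from Subtype.ext (Subgroup.mem_bot.mp hq), map_one]
      refine MonoidHom.ext fun p => ?_
      have h' := DFunLike.congr_fun h (toImage P K p)
      rwa [MonoidHom.pow_apply, MonoidHom.liftOfRightInverse_comp_apply] at h'
    · have := h2 _ (Subgroup.le_normalizer_map (QuotientGroup.mk' K) ⟨n, hn, rfl⟩)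
      rw [sup_bot_eq] at this
      rwa [← Subgroup.mem_comap, Subgroup.comap_map_eq, QuotientGroup.ker_mk'] at this

end Cfsg.Agent.RealOddCount
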