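import Cfsg.Agent.Lib.RealOddCount.Ext

/-!
# Correspondents over a linear character of order two
-/

set_option autoImplicit false
set_option linter.all false

open scoped ComplexConjugate

namespace Cfsg.Agent.RealOddCount

open Cfsg.Agent

universe u

variable {G : Type u} [Group G] [Fintype G] (M : Subgroup G) [hM : M.Normal] [Fintype M]

variable (lam : M →* ℂˣ) (T : Subgroup G) [Fintype T] (hT : T = CT.inertia M (fn M lam))
  (hMT : M ≤ T)

omit hM in
theorem deg_indFun_lin {ψ : T → ℂ} (hψ : Cfsg.IsCharacter T ψ) :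
    CT.deg (Cfsg.indFun T ψ) = T.index * CT.deg ψ := by
  have h2 := CT.deg_eq (CT.isCharacter_indFun T hψ)
  rw [CT.indFun_one_eval, CT.deg_eq hψ] at h2
  exact_mod_cast h2.symm

include hT in
theorem real_correspondent (hlam : lam ^ 2 = 1) {ψ : T → ℂ} (hψ : Cfsg.IsIrrCharacter T ψ)
    (h : OverT M lam T hMT ψ) (hr : IsReal (Cfsg.indFun T ψ)) : IsReal ψ := by
  have hcψ : Cfsg.IsIrrCharacter T (fun t => conj (ψ t)) := CT.conj_irr hψ
  have h0 := apply_of_overT M lam T hT hMT hψ h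
  have h' : OverT M lam T hMT (fun t => conj (ψ t)) := overT_of_apply M lam T hMT hcψ fun m => by
    show conj (ψ _) = _ * conj (ψ 1)
    rw [h0, map_mul, show conj (lam m : ℂ) = lam m from isReal_lin hlam m]
  have heq := correspondent_unique M (CT.isIrrCharacter_lin lam) T hT hMT hψ hcψ h h'
    (funext fun g => by rw [← conj_indFun]; exact (hr g).symm)
  exact fun t => (congrFun heq t).symm

include hT in
theorem exists_odd_correspondent {χ : G → ℂ} (hχ : Cfsg.IsIrrCharacter G χ) (hodd : Odd (CT.deg χ))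
    (h : Over M χ lam) : ∃ ψ : Cfsg.IrrCharacter T, Cfsg.indFun T (ψ : T → ℂ) = χ ∧
      Odd (CT.deg (ψ : T → ℂ)) ∧ OverT M lam T hMT (ψ : T → ℂ) := by
  obtain ⟨ψ, hψ, hind, hcon⟩ :=
    CT.exists_correspondent M (CT.isIrrCharacter_lin lam) T hT hMT hχ h
  refine ⟨⟨ψ, hψ⟩, hind, ?_, ?_⟩
  · rw [← hind, deg_indFun_lin T (CT.isCharacter_of_isIrr hψ)] at hodd
    exact (Nat.odd_mul.mp hodd).2
  · show Cfsg.classInner (CT.resTo M T hMT ψ) (fn M lam) ≠ 0
    rw [hcon]
    exact h

omit [Fintype G] hM [Fintype M] in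
theorem twist_twist (e : T →* ℂˣ) (he : e ^ 2 = 1) (ψ : Cfsg.IrrCharacter T) :
    twist T e (twist T e ψ) = ψ := by
  refine Subtype.ext (funext fun t => ?_)
  show (e t : ℂ) * ((e t : ℂ) * (ψ : T → ℂ) t) = _
  rw [← mul_assoc, ← Units.val_mul, ← pow_two, ← MonoidHom.pow_apply, he, MonoidHom.one_apply,
    Units.val_one, one_mul]

end Cfsg.Agent.RealOddCount
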